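import Groth.Agent.Lib.Adeq20.Cocycle
import Mathlib.Algebra.BigOperators.Fin

/-!
# Exactness of the Amitsur complex of an adequate functor
-/

set_option autoImplicit false
set_option linter.style.haveILetI false
set_option linter.unusedSectionVars false

universe u

open CategoryTheory CategoryTheory.Limits Opposite TensorProduct

noncomputable section

namespace GrothLib.Adeq20

open Adeq

variable {R : Type u} [CommRing R] (B : Alg R)

/-- The structure map of an algebra. -/
abbrev str (C : Alg R) : algOf R R ⟶ C := CommAlgCat.ofHom (Algebra.ofId R (C : Type u))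

theorem str_comp {C C' : Alg R} (g : C ⟶ C') : str C ≫ g = str C' :=
  ConcreteCategory.hom_ext _ _ fun r => g.hom.commutes r

/-- The tensor powers. -/
def tpow : ℕ → Alg R
  | 0 => B
  | n + 1 => ov (str B) (str (tpow n))

/-- The coprojections. -/
def prT : ∀ (n : ℕ), Fin (n + 1) → (B ⟶ tpow B n)
  | 0, _ => 𝟙 B
  | n + 1, k => Fin.cases (motive := fun _ => B ⟶ tpow B (n + 1)) (ovL (str B) (str (tpow B n)))
      (fun j => prT n j ≫ ovR (str B) (str (tpow B n))) k

theorem prT_zero (n : ℕ) : prT B (n + 1) 0 = ovL (str B) (str (tpow B n)) := rfl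

theorem prT_succ (n : ℕ) (j : Fin (n + 1)) : prT B (n + 1) j.succ = prT B n j ≫ ovR (str B) (str (tpow B n)) := rfl

/-- The coface maps. -/
def faceT : ∀ (n : ℕ), Fin (n + 2) → (tpow B n ⟶ tpow B (n + 1))
  | 0, k => Fin.cases (motive := fun _ => tpow B 0 ⟶ tpow B 1) (ovR (str B) (str (tpow B 0)))
      (fun _ => ovL (str B) (str (tpow B 0))) k
  | n + 1, k => Fin.cases (motive := fun _ => tpow B (n + 1) ⟶ tpow B (n + 2)) (ovR (str B) (str (tpow B (n + 1))))
      (fun j => ovLift (str B) (str (tpow B n)) (ovL (str B) (str (tpow B (n + 1))))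
        (faceT n j ≫ ovR (str B) (str (tpow B (n + 1)))) ((str_comp (ovL _ _)).trans (str_comp _).symm)) k

theorem faceT_zero (n : ℕ) : faceT B n 0 = ovR (str B) (str (tpow B n)) := by
  cases n <;> rfl

theorem faceT_succ (n : ℕ) (j : Fin (n + 2)) :
    faceT B (n + 1) j.succ = ovLift (str B) (str (tpow B n)) (ovL (str B) (str (tpow B (n + 1))))
      (faceT B n j ≫ ovR (str B) (str (tpow B (n + 1)))) ((str_comp (ovL _ _)).trans (str_comp _).symm) := rfl

theorem prT_faceT : ∀ (n : ℕ) (k : Fin (n + 2)) (l : Fin (n + 1)),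
    prT B n l ≫ faceT B n k = prT B (n + 1) (k.succAbove l) := by
  intro n
  induction n with
  | zero =>
    intro k l
    fin_cases l
    fin_cases k
    · exact Category.id_comp _
    · exact Category.id_comp _
  | succ n ih =>
    intro k l
    induction k using Fin.cases with
    | zero =>
      rw [faceT_zero, Fin.zero_succAbove, prT_succ]
      rfl
    | succ j =>
      induction l using Fin.cases with
      | zero =>
        rw [Fin.succ_succAbove_zero, prT_zero, faceT_succ]
        exact ovL_lift _ _ _ _ _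
      | succ l =>
        rw [Fin.succ_succAbove_succ, prT_succ, faceT_succ]
        refine (Category.assoc _ _ _).trans ?_
        refine ((congrArg (prT B n l ≫ ·) (ovR_lift _ _ _ _ _)).trans (Category.assoc _ _ _).symm).trans ?_
        exact congrArg (· ≫ ovR (str B) (str (tpow B (n + 1)))) (ih j l)

theorem flat_ov {A : Type u} [CommRing A] {C P Q : Alg A} (g : C ⟶ P) (h : C ⟶ Q) (hg : g.hom.toRingHom.Flat)
    (hh : h.hom.toRingHom.Flat) : (g ≫ ovL g h).hom.toRingHom.Flat := by
  letI := g.hom.toRingHom.toAlgebra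
  letI := h.hom.toRingHom.toAlgebra
  haveI : Module.Flat (C : Type u) (P : Type u) := hg
  haveI : Module.Flat (C : Type u) (Q : Type u) := hh
  letI : Algebra (C : Type u) (ov g h : Type u) := (g ≫ ovL g h).hom.toRingHom.toAlgebra
  let σ : (P : Type u) ⊗[(C : Type u)] (Q : Type u) ≃ₗ[(C : Type u)] (ov g h : Type u) :=
    { toFun := fun w => w
      map_add' := fun _ _ => rfl
      map_smul' := fun b w => (Algebra.smul_def b w).trans rfl
      invFun := fun w => w
      left_inv := fun _ => rfl
      right_inv := fun _ => rfl }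
  haveI : Module.Flat (C : Type u) ((P : Type u) ⊗[(C : Type u)] (Q : Type u)) := Module.Flat.trans _ (P : Type u) _
  exact Module.Flat.of_linearEquiv σ.symm

theorem flat_tpow (hB : (str B).hom.toRingHom.Flat) : ∀ n, (str (tpow B n)).hom.toRingHom.Flat
  | 0 => hB
  | n + 1 => by
    have h := flat_ov (str B) (str (tpow B n)) hB (flat_tpow hB n)
    rwa [str_comp] at h

variable (F : MVF R)

/-- The differential of the Amitsur complex. -/
def amD (n : ℕ) : F.obj (pt (tpow B n)) →+ F.obj (pt (tpow B (n + 1))) :=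
  ∑ k : Fin (n + 2), (-1 : ℤ) ^ (k : ℕ) • mapA F (faceT B n k)

theorem amD_apply (n : ℕ) (x : F.obj (pt (tpow B n))) :
    amD B F n x = ∑ k : Fin (n + 2), (-1 : ℤ) ^ (k : ℕ) • mapA F (faceT B n k) x := by
  simp only [amD, AddMonoidHom.finsetSum_apply, AddMonoidHom.smul_apply]

/-- The last coprojection. -/
def rT (n : ℕ) : tpow B n ⟶ tpow B (n + 1) := ovR (str B) (str (tpow B n))

/-- The first coprojection. -/
def lT (n : ℕ) : B ⟶ tpow B (n + 1) := ovL (str B) (str (tpow B n))

theorem faceT_zero' (n : ℕ) : faceT B n 0 = rT B n := faceT_zero B n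

theorem lT_face (n : ℕ) (j : Fin (n + 2)) : lT B n ≫ faceT B (n + 1) j.succ = lT B (n + 1) :=
  ovL_lift (str B) (str (tpow B n)) (ovL (str B) (str (tpow B (n + 1)))) (faceT B n j ≫ ovR (str B) (str (tpow B (n + 1))))
    ((str_comp (ovL _ _)).trans (str_comp _).symm)

theorem rT_face (n : ℕ) (j : Fin (n + 2)) : rT B n ≫ faceT B (n + 1) j.succ = faceT B n j ≫ rT B (n + 1) :=
  ovR_lift (str B) (str (tpow B n)) (ovL (str B) (str (tpow B (n + 1)))) (faceT B n j ≫ ovR (str B) (str (tpow B (n + 1))))
    ((str_comp (ovL _ _)).trans (str_comp _).symm)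

/-- The Amitsur complex of an adequate functor along a faithfully flat algebra is exact in positive degrees. -/
theorem amitsur_exact (hF : adequate R F) [Module.FaithfullyFlat R (B : Type u)] (n : ℕ)
    (x : F.obj (pt (tpow B (n + 1)))) (hx : amD B F (n + 1) x = 0) : ∃ y, amD B F n y = x := by
  let R₀ : Alg R := algOf R R
  have hB : (str B).hom.toRingHom.Flat := RingHom.flat_algebraMap_iff.2 inferInstance
  have hsurj : Function.Surjective (PrimeSpectrum.comap (algebraMap R (B : Type u))) :=
    fun p => PrimeSpectrum.comap_surjective_of_faithfullyFlat p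
  letI : Algebra (R₀ : Type u) (B : Type u) := (str B).hom.toRingHom.toAlgebra
  haveI : Module.Flat (R₀ : Type u) (B : Type u) := hB
  haveI hff : Module.FaithfullyFlat (R₀ : Type u) (B : Type u) := Module.FaithfullyFlat.of_comap_surjective hsurj
  letI := fun m => (Module.compHom (F.obj (pt (tpow B m))) (str (tpow B m)).hom.toRingHom :
    Module (R₀ : Type u) (F.obj (pt (tpow B m))))
  have hex : ∀ m, ∃ e : (B : Type u) ⊗[(R₀ : Type u)] F.obj (pt (tpow B m)) ≃+ F.obj (pt (tpow B (m + 1))),
      ∀ (p : (B : Type u)) (y : F.obj (pt (tpow B m))),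
        e (p ⊗ₜ[(R₀ : Type u)] y) = (lT B m).hom p • mapA F (rT B m) y :=
    fun m => exists_ovEquiv (F := F) (str B) (str (tpow B m)) hB (flat_tpow B hB m) hF
  choose e he using hex
  let ψ : F.obj (pt (tpow B n)) →ₗ[(R₀ : Type u)] F.obj (pt (tpow B (n + 1))) :=
    { toFun := amD B F n
      map_add' := fun y z => map_add _ y z
      map_smul' := fun r y => by
        simp only [amD_apply, RingHom.id_apply]
        refine (Finset.sum_congr rfl fun k _ => ?_).trans (Finset.smul_sum).symm
        refine Eq.trans ?_ (smul_comm r ((-1 : ℤ) ^ (k : ℕ)) (mapA F (faceT B n k) y)).symm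
        refine congrArg (((-1 : ℤ) ^ (k : ℕ)) • ·) ?_
        refine (mapA_smul F (faceT B n k) ((str (tpow B n)).hom r) y).trans ?_
        exact congrArg (fun t : (tpow B (n + 1) : Type u) => t • mapA F (faceT B n k) y)
          ((faceT B n k).hom.commutes r) }
  have hshift : ∀ (j : Fin (n + 2)) (p : (B : Type u)) (y : F.obj (pt (tpow B n))),
      mapA F (faceT B (n + 1) j.succ) ((lT B n).hom p • mapA F (rT B n) y) =
        (lT B (n + 1)).hom p • mapA F (rT B (n + 1)) (mapA F (faceT B n j) y) := fun j p y => by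
    rw [mapA_smul, map_comp', map_comp', map_congr F (rT_face B n j)]
    exact congrArg (fun t : (tpow B (n + 2) : Type u) => t • _) (ConcreteCategory.congr_hom (lT_face B n j) p)
  have htail : ∀ w : (B : Type u) ⊗[(R₀ : Type u)] F.obj (pt (tpow B n)),
      (∑ j : Fin (n + 2), (-1 : ℤ) ^ (j : ℕ) • mapA F (faceT B (n + 1) j.succ) (e n w)) =
        e (n + 1) (ψ.lTensor (B : Type u) w) := fun w => by
    induction w using TensorProduct.induction_on with
    | zero => simp only [map_zero, smul_zero, Finset.sum_const_zero]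
    | tmul p y =>
      rw [LinearMap.lTensor_tmul, he, he]
      change _ = (lT B (n + 1)).hom p • mapA F (rT B (n + 1)) (amD B F n y)
      rw [amD_apply, map_sum, Finset.smul_sum]
      refine Finset.sum_congr rfl fun j _ => ?_
      rw [map_zsmul, smul_comm, ← hshift]
    | add w w' hw hw' => simp only [map_add, smul_add, Finset.sum_add_distrib, hw, hw']
  obtain ⟨w, hw⟩ := (e n).surjective x
  have h1 : e (n + 1) ((1 : (B : Type u)) ⊗ₜ[(R₀ : Type u)] x) = e (n + 1) (ψ.lTensor (B : Type u) w) := by
    rw [← htail, he, hw]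
    rw [amD_apply, Fin.sum_univ_succ, Fin.val_zero, pow_zero, one_zsmul, faceT_zero', add_eq_zero_iff_eq_neg,
      ← Finset.sum_neg_distrib] at hx
    refine ((congrArg (fun t : (tpow B (n + 2) : Type u) => t • _) (map_one (lT B (n + 1)).hom)).trans
      (one_smul _ _)).trans (hx.trans (Finset.sum_congr rfl fun j _ => ?_))
    rw [← neg_smul, Fin.val_succ, pow_succ, mul_neg, mul_one, neg_neg]
  suffices h : x ∈ LinearMap.range ψ from LinearMap.mem_range.1 h
  rw [← Submodule.Quotient.mk_eq_zero]
  refine Module.FaithfullyFlat.tensorProduct_mk_injective (A := (R₀ : Type u)) (B := (B : Type u)) _ ?_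
  rw [map_zero, TensorProduct.mk_apply,
    show (1 : (B : Type u)) ⊗ₜ[(R₀ : Type u)] (Submodule.Quotient.mk x : _ ⧸ LinearMap.range ψ) =
      (LinearMap.range ψ).mkQ.lTensor (B : Type u) ((1 : (B : Type u)) ⊗ₜ[(R₀ : Type u)] x) from rfl,
    (e (n + 1)).injective h1, ← LinearMap.lTensor_comp_apply, LinearMap.range_mkQ_comp, LinearMap.lTensor_zero,
    LinearMap.zero_apply]

end GrothLib.Adeq20
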