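import Groth.Prelude.Def_Adeq
import Mathlib.Algebra.Category.ModuleCat.Presheaf.EpiMono
import Mathlib.LinearAlgebra.TensorProduct.RightExactness
import Mathlib.LinearAlgebra.TensorProduct.Prod
import Mathlib.Algebra.Category.ModuleCat.Abelian
import Mathlib.Algebra.Homology.ShortComplex.ModuleCat
import Mathlib.CategoryTheory.Abelian.Exact

/-!
# Module-valued functors on algebras: elementwise criteria
-/

set_option autoImplicit false
set_option linter.style.haveILetI false

universe u

open CategoryTheory CategoryTheory.Limits Opposite TensorProduct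

noncomputable section

namespace GrothLib.Adeq20

open Adeq

variable {A : Type u} [CommRing A]

/-- The underlying linear map of a morphism at an algebra. -/
abbrev appL {F G : MVF A} (φ : F ⟶ G) (B : Alg A) : F.obj (pt B) →ₗ[B] G.obj (pt B) := (φ.app (pt B)).hom

theorem comp_appL {F G H : MVF A} (φ : F ⟶ G) (ψ : G ⟶ H) (B : Alg A) (x : F.obj (pt B)) :
    appL (φ ≫ ψ) B x = appL ψ B (appL φ B x) := rfl

theorem map_appL {F G : MVF A} (φ : F ⟶ G) {B B' : Alg A} (f : B ⟶ B') (x : F.obj (pt B)) :
    G.map (ptHom f) (appL φ B x) = appL φ B' (F.map (ptHom f) x) :=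
  (PresheafOfModules.naturality_apply φ (ptHom f) x).symm

theorem hom_ext' {F G : MVF A} {φ ψ : F ⟶ G} (h : ∀ (B : Alg A) (x : F.obj (pt B)), appL φ B x = appL ψ B x) :
    φ = ψ := by
  ext X x
  exact h X.unop.unop x

theorem mono_of_injective' {F G : MVF A} (φ : F ⟶ G) (h : ∀ B : Alg A, Function.Injective (appL φ B)) : Mono φ :=
  PresheafOfModules.mono_of_injective fun X => h X.unop.unop

theorem epi_of_surjective' {F G : MVF A} (φ : F ⟶ G) (h : ∀ B : Alg A, Function.Surjective (appL φ B)) : Epi φ :=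
  PresheafOfModules.epi_of_surjective fun X => h X.unop.unop

theorem injective_appL {F G : MVF A} (φ : F ⟶ G) [Mono φ] (B : Alg A) : Function.Injective (appL φ B) :=
  PresheafOfModules.injective_of_mono φ (pt B)

theorem surjective_appL {F G : MVF A} (φ : F ⟶ G) [Epi φ] (B : Alg A) : Function.Surjective (appL φ B) :=
  PresheafOfModules.surjective_of_epi φ (pt B)

theorem kernelι_appL {F G : MVF A} (φ : F ⟶ G) (B : Alg A) (x : (kernel φ).obj (pt B)) :
    appL φ B (appL (kernel.ι φ) B x) = 0 := by
  rw [← comp_appL, kernel.condition]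
  rfl

theorem exact_appL {S : ShortComplex (MVF A)} (hS : S.Exact) (B : Alg A) (x : S.X₂.obj (pt B))
    (hx : appL S.g B x = 0) : ∃ y, appL S.f B y = x := by
  haveI : (PresheafOfModules.evaluation.{u + 1} (ringOf A) (pt B)).Additive := ⟨rfl⟩
  haveI : PreservesFiniteLimits (PresheafOfModules.evaluation.{u + 1} (ringOf A) (pt B)) :=
    PresheafOfModules.evaluation_preservesFiniteLimits _ _
  haveI : PreservesFiniteColimits (PresheafOfModules.evaluation.{u + 1} (ringOf A) (pt B)) :=
    PresheafOfModules.Finite.evaluation_preservesFiniteColimits _ _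
  haveI : (PresheafOfModules.evaluation.{u + 1} (ringOf A) (pt B)).PreservesHomology := inferInstance
  have h' := hS.map (PresheafOfModules.evaluation.{u + 1} (ringOf A) (pt B))
  rw [ShortComplex.moduleCat_exact_iff] at h'
  exact h' x hx

theorem mem_range_kernelι {F G : MVF A} (φ : F ⟶ G) (B : Alg A) (x : F.obj (pt B)) (hx : appL φ B x = 0) :
    ∃ y, appL (kernel.ι φ) B y = x := by
  exact exact_appL ((ShortComplex.mk (kernel.ι φ) φ (kernel.condition φ)).exact_of_f_is_kernel (kernelIsKernel φ)) B x hx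

theorem cokernelπ_eq_zero_iff {F G : MVF A} (φ : F ⟶ G) (B : Alg A) (x : G.obj (pt B)) :
    appL (cokernel.π φ) B x = 0 ↔ ∃ y, appL φ B y = x := by
  constructor
  · intro hx
    exact exact_appL ((ShortComplex.mk φ (cokernel.π φ) (cokernel.condition φ)).exact_of_g_is_cokernel
      (cokernelIsCokernel φ)) B x hx
  · rintro ⟨y, rfl⟩
    rw [← comp_appL, cokernel.condition]
    rfl

/-- A mono whose image is the zero set of `τ` is a kernel of `τ`. -/
theorem exists_iso_kernel {F G H : MVF A} (i : F ⟶ G) (τ : G ⟶ H)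
    (hinj : ∀ B : Alg A, Function.Injective (appL i B))
    (hrange : ∀ (B : Alg A) (x : G.obj (pt B)), appL τ B x = 0 ↔ ∃ y, appL i B y = x) :
    ∃ e : F ≅ kernel τ, e.hom ≫ kernel.ι τ = i := by
  have w : i ≫ τ = 0 := hom_ext' fun B x => (comp_appL _ _ _ _).trans ((hrange B _).2 ⟨x, rfl⟩)
  let l : F ⟶ kernel τ := kernel.lift τ i w
  have hl : l ≫ kernel.ι τ = i := kernel.lift_ι _ _ _
  haveI : Mono l := mono_of_injective' l fun B x y hxy => hinj B (by
    rw [← hl, comp_appL, comp_appL, hxy])
  haveI : Epi l := epi_of_surjective' l fun B y => by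
    obtain ⟨x, hx⟩ := (hrange B _).1 (kernelι_appL τ B y)
    refine ⟨x, injective_appL (kernel.ι τ) B ?_⟩
    rw [← comp_appL, hl, hx]
  haveI : IsIso l := isIso_of_mono_of_epi l
  exact ⟨asIso l, hl⟩

section Underline

/-- The value of the underline of a map. -/
theorem appL_underline {M N : ModuleCat.{u + 1} A} (g : M ⟶ N) (B : Alg A) (x : (B : Type u) ⊗[A] M) :
    appL ((underline A).map g) B x = g.hom.baseChange B x := rfl

theorem map_underline (M : ModuleCat.{u + 1} A) {B B' : Alg A} (f : B ⟶ B') (x : (B : Type u) ⊗[A] M) :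
    ((underline A).obj M).map (ptHom f) x = f.hom.toLinearMap.rTensor M x := rfl

variable {M N K : ModuleCat.{u + 1} A}

theorem baseChange_comp_apply (g : M ⟶ N) (h : N ⟶ K) (B : Alg A) (x : (B : Type u) ⊗[A] M) :
    (g ≫ h).hom.baseChange B x = h.hom.baseChange B (g.hom.baseChange B x) := by
  rw [ModuleCat.hom_comp, LinearMap.baseChange_comp, LinearMap.comp_apply]

/-- The pushout of `g` and `a`: its zero set is the image of the zero set of `a`. -/
def imgTarget (a : M ⟶ N) (g : M ⟶ K) : ModuleCat.{u + 1} A :=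
  ModuleCat.of A ((K × N) ⧸ LinearMap.range (g.hom.prod a.hom))

/-- The map cutting out the image. -/
def imgMap (a : M ⟶ N) (g : M ⟶ K) : K ⟶ imgTarget a g :=
  ModuleCat.ofHom ((Submodule.mkQ _) ∘ₗ LinearMap.inl A K N)

theorem imgMap_zero_iff (a : M ⟶ N) (g : M ⟶ K) (B : Alg A) (z : (B : Type u) ⊗[A] K) :
    (imgMap a g).hom.baseChange B z = 0 ↔
      ∃ x : (B : Type u) ⊗[A] M, a.hom.baseChange B x = 0 ∧ g.hom.baseChange B x = z := by
  have hex := lTensor_exact (B : Type u) (LinearMap.exact_map_mkQ_range (g.hom.prod a.hom)) (Submodule.mkQ_surjective _)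
  have hfst : ∀ x : (B : Type u) ⊗[A] M,
      LinearMap.lTensor (B : Type u) (LinearMap.fst A K N) ((g.hom.prod a.hom).lTensor (B : Type u) x) =
        g.hom.lTensor (B : Type u) x := fun x => by
    rw [← LinearMap.lTensor_comp_apply, LinearMap.fst_prod]
  have hsnd : ∀ x : (B : Type u) ⊗[A] M,
      LinearMap.lTensor (B : Type u) (LinearMap.snd A K N) ((g.hom.prod a.hom).lTensor (B : Type u) x) =
        a.hom.lTensor (B : Type u) x := fun x => by
    rw [← LinearMap.lTensor_comp_apply, LinearMap.snd_prod]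
  change LinearMap.lTensor (B : Type u) ((Submodule.mkQ _) ∘ₗ LinearMap.inl A K N) z = 0 ↔
    ∃ x, LinearMap.lTensor (B : Type u) a.hom x = 0 ∧ LinearMap.lTensor (B : Type u) g.hom x = z
  rw [LinearMap.lTensor_comp_apply]
  constructor
  · intro h
    obtain ⟨x, hx⟩ := (hex _).1 h
    refine ⟨x, ?_, ?_⟩
    · have := congrArg (LinearMap.lTensor (B : Type u) (LinearMap.snd A K N)) hx
      rw [hsnd, ← LinearMap.lTensor_comp_apply, LinearMap.snd_comp_inl, LinearMap.lTensor_zero,
        LinearMap.zero_apply] at this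
      exact this
    · have := congrArg (LinearMap.lTensor (B : Type u) (LinearMap.fst A K N)) hx
      rw [hfst, ← LinearMap.lTensor_comp_apply, LinearMap.fst_comp_inl, LinearMap.lTensor_id,
        LinearMap.id_apply] at this
      exact this
  · rintro ⟨x, hax, rfl⟩
    refine (hex _).2 ⟨x, ?_⟩
    have h1 : g.hom.prod a.hom = LinearMap.inl A K N ∘ₗ g.hom + LinearMap.inr A K N ∘ₗ a.hom := by
      ext y <;> simp
    conv_lhs => rw [h1, LinearMap.lTensor_add, LinearMap.add_apply, LinearMap.lTensor_comp_apply,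
      LinearMap.lTensor_comp_apply, hax, map_zero, add_zero]

/-- The map killing exactly the common zeros of two maps. -/
def pairMap (g : M ⟶ N) (h : M ⟶ K) : M ⟶ ModuleCat.of A (N × K) := ModuleCat.ofHom (g.hom.prod h.hom)

theorem pairMap_zero_iff (g : M ⟶ N) (h : M ⟶ K) (B : Alg A) (x : (B : Type u) ⊗[A] M) :
    (pairMap g h).hom.baseChange B x = 0 ↔ g.hom.baseChange B x = 0 ∧ h.hom.baseChange B x = 0 := by
  change LinearMap.lTensor (B : Type u) (g.hom.prod h.hom) x = 0 ↔
    LinearMap.lTensor (B : Type u) g.hom x = 0 ∧ LinearMap.lTensor (B : Type u) h.hom x = 0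
  refine ⟨fun e => ⟨?_, ?_⟩, fun e => ?_⟩
  · have := congrArg (LinearMap.lTensor (B : Type u) (LinearMap.fst A N K)) e
    rwa [← LinearMap.lTensor_comp_apply, LinearMap.fst_prod, map_zero] at this
  · have := congrArg (LinearMap.lTensor (B : Type u) (LinearMap.snd A N K)) e
    rwa [← LinearMap.lTensor_comp_apply, LinearMap.snd_prod, map_zero] at this
  · have h1 : g.hom.prod h.hom = LinearMap.inl A N K ∘ₗ g.hom + LinearMap.inr A N K ∘ₗ h.hom := by
      ext y <;> simp
    rw [h1, LinearMap.lTensor_add, LinearMap.add_apply, LinearMap.lTensor_comp_apply,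
      LinearMap.lTensor_comp_apply, e.1, e.2, map_zero, map_zero, add_zero]

end Underline

/-- A subfunctor of an underline cut out by linear equations is adequate. -/
theorem adequate_of_range {F : MVF A} {K T : ModuleCat.{u + 1} A} (i : F ⟶ (underline A).obj K) (τ : K ⟶ T)
    (hinj : ∀ B : Alg A, Function.Injective (appL i B))
    (hrange : ∀ (B : Alg A) (x : (B : Type u) ⊗[A] K), τ.hom.baseChange B x = 0 ↔ ∃ y, appL i B y = x) :
    adequate A F := by
  obtain ⟨e, -⟩ := exists_iso_kernel i ((underline A).map τ) hinj hrange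
  exact ⟨K, T, τ, ⟨e⟩⟩

/-- An adequate functor is a subfunctor of an underline cut out by linear equations. -/
theorem exists_range_of_adequate {F : MVF A} (hF : adequate A F) :
    ∃ (K T : ModuleCat.{u + 1} A) (i : F ⟶ (underline A).obj K) (τ : K ⟶ T),
      (∀ B : Alg A, Function.Injective (appL i B)) ∧
        ∀ (B : Alg A) (x : (B : Type u) ⊗[A] K), τ.hom.baseChange B x = 0 ↔ ∃ y, appL i B y = x := by
  obtain ⟨K, T, τ, ⟨e⟩⟩ := hF
  refine ⟨K, T, e.hom ≫ kernel.ι _, τ, fun B => injective_appL _ B, fun B x => ⟨fun hx => ?_, ?_⟩⟩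
  · obtain ⟨y, hy⟩ := mem_range_kernelι ((underline A).map τ) B x hx
    obtain ⟨y', rfl⟩ := surjective_appL e.hom B y
    exact ⟨y', (comp_appL _ _ _ _).trans hy⟩
  · rintro ⟨y, rfl⟩
    exact (congrArg _ (comp_appL e.hom _ B y)).trans (kernelι_appL ((underline A).map τ) B _)

end GrothLib.Adeq20
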