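import Groth.Agent.Lib.Adeq20.Cover
import Mathlib.Algebra.Category.ModuleCat.Products
import Mathlib.CategoryTheory.Limits.Constructions.LimitsOfProductsAndEqualizers

/-!
# Adequate functors are closed under kernels, cokernels and colimits
-/

set_option autoImplicit false
set_option linter.style.haveILetI false

universe u

open CategoryTheory CategoryTheory.Limits Opposite TensorProduct

noncomputable section

namespace GrothLib.Adeq20

open Adeq

variable {A : Type u} [CommRing A]

/-- The kernel of a map of adequate functors is adequate. -/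
theorem adequate_kernel {F G : MVF A} (φ : F ⟶ G) (hF : adequate A F) (hG : adequate A G) :
    adequate A (kernel φ) := by
  obtain ⟨K, T, i, τ, hinj, -⟩ := exists_range_of_adequate hF
  obtain ⟨K', T', i', τ', hinj', -⟩ := exists_range_of_adequate hG
  obtain ⟨C⟩ := exists_cover hF
  obtain ⟨h, hh⟩ := C.ext (C.π ≫ i)
  obtain ⟨g, hg⟩ := C.ext (C.π ≫ φ ≫ i')
  refine adequate_of_range (kernel.ι φ ≫ i) (imgMap (pairMap C.a g) h)
    (fun B x y hxy => injective_appL (kernel.ι φ) B (hinj B ((comp_appL _ _ _ _).symm.trans (hxy.trans (comp_appL _ _ _ _)))))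
    fun B x => ?_
  rw [imgMap_zero_iff]
  constructor
  · rintro ⟨z, hz, rfl⟩
    obtain ⟨hz1, hz2⟩ := (pairMap_zero_iff C.a g B z).1 hz
    obtain ⟨w, hw⟩ := mem_range_kernelι ((underline A).map C.a) B z hz1
    have h0 : appL φ B (appL C.π B w) = 0 := hinj' B (by
      rw [map_zero, ← comp_appL, ← comp_appL, ← hg, comp_appL, hw]
      exact hz2)
    obtain ⟨y, hy⟩ := mem_range_kernelι φ B _ h0
    refine ⟨y, ?_⟩
    rw [comp_appL, hy, ← comp_appL, ← hh, comp_appL, hw]
    rfl
  · rintro ⟨y, rfl⟩
    obtain ⟨w, hw⟩ := C.surj B (appL (kernel.ι φ) B y)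
    refine ⟨appL (kernel.ι ((underline A).map C.a)) B w, (pairMap_zero_iff C.a g B _).2 ⟨?_, ?_⟩, ?_⟩
    · exact kernelι_appL ((underline A).map C.a) B w
    · refine Eq.trans (appL_underline g B _).symm ?_
      rw [← comp_appL, hg, comp_appL, comp_appL, hw, kernelι_appL, map_zero]
      rfl
    · refine Eq.trans (appL_underline h B _).symm ?_
      rw [← comp_appL, hh, comp_appL, hw, ← comp_appL]

/-- The cokernel of a map of adequate functors is adequate. -/
theorem adequate_cokernel {F G : MVF A} (φ : F ⟶ G) (hF : adequate A F) (hG : adequate A G) :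
    adequate A (cokernel φ) := by
  obtain ⟨K, T, i, τ, hinj, hrange⟩ := exists_range_of_adequate hG
  obtain ⟨C⟩ := exists_cover hF
  obtain ⟨g, hg⟩ := C.ext (C.π ≫ φ ≫ i)
  let q : K ⟶ imgTarget C.a g := imgMap C.a g
  have hq : ∀ (B : Alg A) (y : G.obj (pt B)),
      q.hom.baseChange B (appL i B y) = 0 ↔ ∃ x, appL φ B x = y := fun B y => by
    refine (imgMap_zero_iff C.a g B (appL i B y)).trans ?_
    constructor
    · rintro ⟨z, hz, hzy⟩
      obtain ⟨w, hw⟩ := mem_range_kernelι ((underline A).map C.a) B z hz
      refine ⟨appL C.π B w, hinj B ?_⟩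
      rw [← comp_appL, ← comp_appL, ← hg, comp_appL, hw]
      exact hzy
    · rintro ⟨x, rfl⟩
      obtain ⟨w, rfl⟩ := C.surj B x
      refine ⟨appL (kernel.ι ((underline A).map C.a)) B w, kernelι_appL ((underline A).map C.a) B w, ?_⟩
      refine Eq.trans (appL_underline g B _).symm ?_
      rw [← comp_appL, hg, comp_appL, comp_appL]
  let j : cokernel φ ⟶ (underline A).obj (imgTarget C.a g) :=
    cokernel.desc φ (i ≫ (underline A).map q) (hom_ext' fun B x =>
      (comp_appL _ _ _ _).trans ((hq B _).2 ⟨x, rfl⟩))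
  have hj : ∀ (B : Alg A) (y : G.obj (pt B)),
      appL j B (appL (cokernel.π φ) B y) = q.hom.baseChange B (appL i B y) := fun B y => by
    rw [← comp_appL, cokernel.π_desc]
    rfl
  refine adequate_of_range j (imgMap τ q) (fun B => ?_) fun B x => ?_
  · refine (injective_iff_map_eq_zero _).2 fun v hv => ?_
    obtain ⟨y, rfl⟩ := surjective_appL (cokernel.π φ) B v
    exact (cokernelπ_eq_zero_iff φ B y).2 ((hq B y).1 ((hj B y).symm.trans hv))
  · rw [imgMap_zero_iff]
    constructor
    · rintro ⟨k, hk, rfl⟩
      obtain ⟨y, rfl⟩ := (hrange B k).1 hk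
      exact ⟨_, hj B y⟩
    · rintro ⟨v, rfl⟩
      obtain ⟨y, rfl⟩ := surjective_appL (cokernel.π φ) B v
      exact ⟨appL i B y, (hrange B _).2 ⟨y, rfl⟩, (hj B y).symm⟩

theorem lTensor_lTensor_of_comp {Q : Type u} [AddCommGroup Q] [Module A Q] {M N P : Type (u + 1)}
    [AddCommGroup M] [Module A M] [AddCommGroup N] [Module A N] [AddCommGroup P] [Module A P]
    {f : M →ₗ[A] N} {g : N →ₗ[A] P} {k : M →ₗ[A] P} (h : g ∘ₗ f = k) (z : Q ⊗[A] M) :
    g.lTensor Q (f.lTensor Q z) = k.lTensor Q z := by
  rw [← h, LinearMap.lTensor_comp_apply]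

/-- The legs of a colimit of modules generate. -/
theorem iSup_range_eq_top {R : Type u} [CommRing R] {J : Type (u + 1)} [SmallCategory J]
    {D : J ⥤ ModuleCat.{u + 1} R} {c : Cocone D} (hc : IsColimit c) :
    ⨆ j, LinearMap.range (show D.obj j ⟶ c.pt from c.ι.app j).hom = ⊤ := by
  let S := ⨆ j, LinearMap.range (show D.obj j ⟶ c.pt from c.ι.app j).hom
  have h : ModuleCat.ofHom S.mkQ = (0 : c.pt ⟶ ModuleCat.of R ((c.pt : Type (u + 1)) ⧸ S)) :=
    hc.hom_ext fun j => ModuleCat.hom_ext (LinearMap.ext fun x =>
      (Submodule.Quotient.mk_eq_zero S).2 (Submodule.mem_iSup_of_mem j ⟨x, rfl⟩))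
  refine eq_top_iff.2 fun x _ => (Submodule.Quotient.mk_eq_zero S).1 ?_
  exact LinearMap.congr_fun (congrArg ModuleCat.Hom.hom h) x

/-- Elements of a coproduct are sums of components. -/
theorem exists_sum_ι {X : Type (u + 1)} (F : X → MVF A) (B : Alg A) (z : (∐ F).obj (pt B)) :
    ∃ (s : Finset X) (y : ∀ x, (F x).obj (pt B)), z = ∑ x ∈ s, appL (Sigma.ι F x) B (y x) := by
  classical
  let ev := PresheafOfModules.evaluation.{u + 1} (ringOf A) (pt B)
  haveI : PreservesColimitsOfShape (Discrete X) ev :=
    PresheafOfModules.evaluation_preservesColimitsOfShape _ _ _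
  haveI : PreservesColimit (Discrete.functor F) ev := inferInstance
  have h := iSup_range_eq_top (isColimitOfPreserves ev (colimit.isColimit (Discrete.functor F)))
  obtain ⟨f, hf, hsum⟩ := (Submodule.mem_iSup_iff_exists_finsupp _ z).1 (h.ge Submodule.mem_top)
  choose y hy using hf
  refine ⟨f.support.image Discrete.as, fun x => y ⟨x⟩, ?_⟩
  rw [Finset.sum_image fun a _ b _ hab => Discrete.ext hab]
  exact hsum.symm.trans (Finset.sum_congr rfl fun x _ => (hy x).symm)

/-- A coproduct of adequate functors is adequate. -/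
theorem adequate_sigma {X : Type (u + 1)} (F : X → MVF A) (hF : ∀ x, adequate A (F x)) : adequate A (∐ F) := by
  classical
  choose K T i τ hinj hrange using fun x => exists_range_of_adequate (hF x)
  let SK : ModuleCat.{u + 1} A := ModuleCat.of A (DirectSum X fun x => (K x : Type (u + 1)))
  let ST : ModuleCat.{u + 1} A := ModuleCat.of A (DirectSum X fun x => (T x : Type (u + 1)))
  let iK : ∀ x, K x ⟶ SK := fun x => ModuleCat.ofHom (DirectSum.lof A X (fun x => (K x : Type (u + 1))) x)
  let pK : ∀ x, SK ⟶ K x := fun x => ModuleCat.ofHom (DirectSum.component A X (fun x => (K x : Type (u + 1))) x)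
  let τ' : SK ⟶ ST := ModuleCat.ofHom (DirectSum.toModule A X _ fun x =>
    DirectSum.lof A X (fun x => (T x : Type (u + 1))) x ∘ₗ (τ x).hom)
  let i' : ∐ F ⟶ (underline A).obj SK := Sigma.desc fun x => i x ≫ (underline A).map (iK x)
  have hi' : ∀ (B : Alg A) (x : X) (v : (F x).obj (pt B)),
      appL i' B (appL (Sigma.ι F x) B v) = (iK x).hom.lTensor (B : Type u) (appL (i x) B v) := fun B x v => by
    rw [← comp_appL, Sigma.ι_desc]
    rfl
  have hcomp : ∀ x, τ'.hom ∘ₗ (iK x).hom = DirectSum.lof A X (fun x => (T x : Type (u + 1))) x ∘ₗ (τ x).hom :=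
    fun x => LinearMap.ext fun v => by
      simp only [τ', iK, ModuleCat.hom_ofHom, LinearMap.comp_apply]
      exact DirectSum.toModule_lof (φ := fun x => DirectSum.lof A X (fun x => (T x : Type (u + 1))) x ∘ₗ (τ x).hom) A x v
  have hproj : ∀ x, (DirectSum.component A X (fun x => (T x : Type (u + 1))) x) ∘ₗ τ'.hom = (τ x).hom ∘ₗ (pK x).hom := by
    intro x
    refine DirectSum.linearMap_ext A fun y => LinearMap.ext fun v => ?_
    simp only [τ', pK, LinearMap.comp_apply, ModuleCat.hom_ofHom, DirectSum.toModule_lof]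
    by_cases hxy : y = x
    · subst hxy
      simp only [DirectSum.component.lof_self]
    · simp only [DirectSum.component.of, dif_neg hxy, map_zero]
  refine adequate_of_range i' τ' (fun B => (injective_iff_map_eq_zero _).2 fun z hz => ?_) fun B v => ?_
  · obtain ⟨s, y, rfl⟩ := exists_sum_ι F B z
    refine Finset.sum_eq_zero fun x hx => ?_
    let L : (∐ F).obj (pt B) →+ (B : Type u) ⊗[A] K x :=
      ((pK x).hom.lTensor (B : Type u)).toAddMonoidHom.comp (appL i' B).toAddMonoidHom
    have h0 : L (∑ x ∈ s, appL (Sigma.ι F x) B (y x)) = 0 :=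
      (congrArg ((pK x).hom.lTensor (B : Type u)) hz).trans (map_zero _)
    rw [map_sum, Finset.sum_eq_single x] at h0
    · replace h0 : (pK x).hom.lTensor (B : Type u) ((iK x).hom.lTensor (B : Type u) (appL (i x) B (y x))) = 0 :=
        (congrArg ((pK x).hom.lTensor (B : Type u)) (hi' B x (y x))).symm.trans h0
      replace h0 : appL (i x) B (y x) = 0 := by
        refine Eq.trans ?_ h0
        exact (lTensor_lTensor_of_comp (LinearMap.ext fun w => by
            exact DirectSum.component.lof_self (M := fun x => (K x : Type (u + 1))) A x w :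
          (pK x).hom ∘ₗ (iK x).hom = LinearMap.id) _).trans (by rw [LinearMap.lTensor_id]; rfl) |>.symm
      rw [hinj x B (h0.trans (map_zero (appL (i x) B)).symm), map_zero]
    · intro x' _ hne
      refine (congrArg ((pK x).hom.lTensor (B : Type u)) (hi' B x' (y x'))).trans ?_
      exact (lTensor_lTensor_of_comp (LinearMap.ext fun w => by
          simp only [pK, iK, ModuleCat.hom_ofHom, LinearMap.comp_apply, LinearMap.zero_apply]
          rw [DirectSum.component.of, dif_neg hne] :
        (pK x).hom ∘ₗ (iK x').hom = 0) _).trans (by rw [LinearMap.lTensor_zero]; rfl)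
    · exact fun h => absurd hx h
  · constructor
    · intro hv
      have hs : ∃ s : Finset X, ∑ x ∈ s, (iK x).hom.lTensor (B : Type u) ((pK x).hom.lTensor (B : Type u) v) = v ∧
          ∀ t, s ⊆ t → ∑ x ∈ t, (iK x).hom.lTensor (B : Type u) ((pK x).hom.lTensor (B : Type u) v) = v := by
        clear hv
        induction v using TensorProduct.induction_on with
        | zero => exact ⟨∅, by simp, fun t _ => by simp⟩
        | tmul b w =>
          suffices h : ∃ s : Finset X, ∀ t, s ⊆ t → ∑ x ∈ t, (iK x).hom ((pK x).hom w) = w by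
            obtain ⟨s, hs⟩ := h
            have : ∀ t, s ⊆ t → ∑ x ∈ t,
                (iK x).hom.lTensor (B : Type u) ((pK x).hom.lTensor (B : Type u) (b ⊗ₜ[A] w)) = b ⊗ₜ[A] w :=
              fun t ht => by
                simp only [LinearMap.lTensor_tmul, ← TensorProduct.tmul_sum]
                rw [hs t ht]
            exact ⟨s, this s subset_rfl, this⟩
          induction w using DirectSum.induction_on with
          | zero => exact ⟨∅, fun t _ => by simp⟩
          | of y w =>
            refine ⟨{y}, fun t ht => ?_⟩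
            simp only [iK, pK, ModuleCat.hom_ofHom, ← DirectSum.lof_eq_of A]
            rw [Finset.sum_eq_single y]
            · rw [DirectSum.component.lof_self]
            · intro x _ hxy
              rw [DirectSum.component.of, dif_neg (Ne.symm hxy), map_zero]
            · exact fun h => absurd (ht (Finset.mem_singleton_self y)) h
          | add p q hp hq =>
            obtain ⟨s, hs⟩ := hp
            obtain ⟨t, ht⟩ := hq
            refine ⟨s ∪ t, fun r hr => ?_⟩
            simp only [map_add, Finset.sum_add_distrib]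
            rw [hs r (Finset.union_subset_left hr), ht r (Finset.union_subset_right hr)]
        | add p q hp hq =>
          obtain ⟨s, -, hs⟩ := hp
          obtain ⟨t, -, ht⟩ := hq
          have : ∀ r, s ∪ t ⊆ r → ∑ x ∈ r,
              (iK x).hom.lTensor (B : Type u) ((pK x).hom.lTensor (B : Type u) (p + q)) = p + q := fun r hr => by
            simp only [map_add, Finset.sum_add_distrib]
            rw [hs r (Finset.union_subset_left hr), ht r (Finset.union_subset_right hr)]
          exact ⟨s ∪ t, this _ subset_rfl, this⟩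
      obtain ⟨s, hs, -⟩ := hs
      choose y hy using fun x => (hrange x B ((pK x).hom.lTensor (B : Type u) v)).1 (by
        change (τ x).hom.lTensor (B : Type u) _ = 0
        rw [← LinearMap.lTensor_comp_apply, ← hproj, LinearMap.lTensor_comp_apply]
        exact (congrArg _ hv).trans (map_zero _))
      refine ⟨∑ x ∈ s, appL (Sigma.ι F x) B (y x), ?_⟩
      rw [map_sum]
      exact (Finset.sum_congr rfl fun x _ => (hi' B x (y x)).trans (congrArg _ (hy x))).trans hs
    · rintro ⟨z, rfl⟩
      obtain ⟨s, y, rfl⟩ := exists_sum_ι F B z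
      let L : (∐ F).obj (pt B) →+ (B : Type u) ⊗[A] ST :=
        (τ'.hom.lTensor (B : Type u)).toAddMonoidHom.comp (appL i' B).toAddMonoidHom
      change L (∑ x ∈ s, appL (Sigma.ι F x) B (y x)) = 0
      rw [map_sum]
      refine Finset.sum_eq_zero fun x _ => ?_
      refine (congrArg (τ'.hom.lTensor (B : Type u)) (hi' B x (y x))).trans ?_
      refine (lTensor_lTensor_of_comp (hcomp x) _).trans ?_
      refine (lTensor_lTensor_of_comp (rfl :
        DirectSum.lof A X (fun x => (T x : Type (u + 1))) x ∘ₗ (τ x).hom = _) _).symm.trans ?_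
      exact (congrArg _ ((hrange x B _).2 ⟨y x, rfl⟩)).trans (map_zero _)

/-- A colimit of adequate functors is adequate. -/
theorem adequate_colimit {J : Type (u + 1)} [SmallCategory J] (D : J ⥤ MVF A)
    (hD : ∀ j, adequate A (D.obj j)) : adequate A (colimit D) := by
  let E : Type (u + 1) := Σ (j k : J), (j ⟶ k)
  let ψ : (∐ fun e : E => D.obj e.1) ⟶ ∐ D.obj :=
    Sigma.desc fun e => D.map e.2.2 ≫ Sigma.ι D.obj e.2.1 - Sigma.ι D.obj e.1
  let c : Cocone D :=
    { pt := cokernel ψ
      ι :=
        { app := fun j => Sigma.ι D.obj j ≫ cokernel.π ψ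
          naturality := fun j k f => by
            have h := Sigma.ι (fun e : E => D.obj e.1) ⟨j, k, f⟩ ≫= cokernel.condition ψ
            rw [← Category.assoc, Sigma.ι_desc, comp_zero, Preadditive.sub_comp, sub_eq_zero] at h
            simpa using h } }
  have hc : IsColimit c :=
    { desc := fun s => cokernel.desc ψ (Sigma.desc s.ι.app) (Sigma.hom_ext _ _ fun e => by
        rw [← Category.assoc, Sigma.ι_desc, comp_zero, Preadditive.sub_comp, Category.assoc, Sigma.ι_desc,
          Sigma.ι_desc, s.w, sub_self])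
      fac := fun s j => by simp [c]
      uniq := fun s m hm => by
        refine (cancel_epi (cokernel.π ψ)).1 (Sigma.hom_ext _ _ fun j => ?_)
        rw [cokernel.π_desc, Sigma.ι_desc, ← Category.assoc]
        exact hm j }
  exact (adequate A).prop_of_iso (hc.coconePointUniqueUpToIso (colimit.isColimit D))
    (adequate_cokernel ψ (adequate_sigma _ fun e => hD e.1) (adequate_sigma _ hD))

end GrothLib.Adeq20
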