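import Groth.Agent.Lib.Adeq20.Desc
import Mathlib.LinearAlgebra.TensorProduct.Pi

/-!
# Descent of cocycles for adequate functors
-/

set_option autoImplicit false
set_option linter.style.haveILetI false
set_option linter.unusedSectionVars false

universe u

open CategoryTheory CategoryTheory.Limits Opposite TensorProduct

noncomputable section

namespace GrothLib.Adeq20

open Adeq

variable {A : Type u} [CommRing A] {B P Q T : Alg A} (g : B ⟶ P) (h : B ⟶ Q)

/-- The pushout of two maps of algebras. -/
def ov : Alg A :=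
  letI := g.hom.toRingHom.toAlgebra
  letI := h.hom.toRingHom.toAlgebra
  haveI : IsScalarTower A (B : Type u) (P : Type u) := IsScalarTower.of_algebraMap_eq fun r => (g.hom.commutes r).symm
  algOf A ((P : Type u) ⊗[(B : Type u)] (Q : Type u))

/-- The first map to the pushout. -/
def ovL : P ⟶ ov g h :=
  letI := g.hom.toRingHom.toAlgebra
  letI := h.hom.toRingHom.toAlgebra
  haveI : IsScalarTower A (B : Type u) (P : Type u) := IsScalarTower.of_algebraMap_eq fun r => (g.hom.commutes r).symm
  CommAlgCat.ofHom ((Algebra.TensorProduct.includeLeft :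
    (P : Type u) →ₐ[(B : Type u)] (P : Type u) ⊗[(B : Type u)] (Q : Type u)).restrictScalars A)

/-- The second map to the pushout. -/
def ovR : Q ⟶ ov g h :=
  letI := g.hom.toRingHom.toAlgebra
  letI := h.hom.toRingHom.toAlgebra
  haveI : IsScalarTower A (B : Type u) (P : Type u) := IsScalarTower.of_algebraMap_eq fun r => (g.hom.commutes r).symm
  haveI : IsScalarTower A (B : Type u) (Q : Type u) := IsScalarTower.of_algebraMap_eq fun r => (h.hom.commutes r).symm
  CommAlgCat.ofHom ((Algebra.TensorProduct.includeRight :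
    (Q : Type u) →ₐ[(B : Type u)] (P : Type u) ⊗[(B : Type u)] (Q : Type u)).restrictScalars A)

theorem ov_comm : g ≫ ovL g h = h ≫ ovR g h := by
  letI := g.hom.toRingHom.toAlgebra
  letI := h.hom.toRingHom.toAlgebra
  refine ConcreteCategory.hom_ext _ _ fun b => ?_
  exact ((Algebra.TensorProduct.includeLeft : (P : Type u) →ₐ[(B : Type u)] (P : Type u) ⊗[(B : Type u)] (Q : Type u)).commutes b).trans
    ((Algebra.TensorProduct.includeRight : (Q : Type u) →ₐ[(B : Type u)] (P : Type u) ⊗[(B : Type u)] (Q : Type u)).commutes b).symm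

theorem exists_ovLift (l : P ⟶ T) (r : Q ⟶ T) (w : g ≫ l = h ≫ r) :
    ∃ φ : ov g h ⟶ T, ovL g h ≫ φ = l ∧ ovR g h ≫ φ = r := by
  letI := g.hom.toRingHom.toAlgebra
  letI := h.hom.toRingHom.toAlgebra
  letI : Algebra (B : Type u) (T : Type u) := (g ≫ l).hom.toRingHom.toAlgebra
  haveI : IsScalarTower A (B : Type u) (P : Type u) := IsScalarTower.of_algebraMap_eq fun r => (g.hom.commutes r).symm
  let lB : (P : Type u) →ₐ[(B : Type u)] (T : Type u) := { l.hom.toRingHom with commutes' := fun _ => rfl }
  let rB : (Q : Type u) →ₐ[(B : Type u)] (T : Type u) :=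
    { r.hom.toRingHom with commutes' := fun b => (ConcreteCategory.congr_hom w b).symm }
  let φ₀ := Algebra.TensorProduct.lift lB rB fun _ _ => Commute.all _ _
  let φ : ov g h ⟶ T := CommAlgCat.ofHom
    { φ₀.toRingHom with
      commutes' := fun a => ((DFunLike.congr_fun (Algebra.TensorProduct.lift_comp_includeLeft lB rB fun _ _ => Commute.all _ _)
        (algebraMap A (P : Type u) a)).trans (l.hom.commutes a)) }
  refine ⟨φ, ConcreteCategory.hom_ext _ _ fun p => ?_, ConcreteCategory.hom_ext _ _ fun q => ?_⟩
  · exact DFunLike.congr_fun (Algebra.TensorProduct.lift_comp_includeLeft lB rB fun _ _ => Commute.all _ _) p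
  · exact DFunLike.congr_fun (Algebra.TensorProduct.lift_comp_includeRight lB rB fun _ _ => Commute.all _ _) q

/-- A map from the pushout given on both factors. -/
def ovLift (l : P ⟶ T) (r : Q ⟶ T) (w : g ≫ l = h ≫ r) : ov g h ⟶ T := (exists_ovLift g h l r w).choose

theorem ovL_lift (l : P ⟶ T) (r : Q ⟶ T) (w : g ≫ l = h ≫ r) : ovL g h ≫ ovLift g h l r w = l :=
  (exists_ovLift g h l r w).choose_spec.1

theorem ovR_lift (l : P ⟶ T) (r : Q ⟶ T) (w : g ≫ l = h ≫ r) : ovR g h ≫ ovLift g h l r w = r :=
  (exists_ovLift g h l r w).choose_spec.2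

variable {F : MVF A}

/-- The value at a flat pushout is a base change. -/
theorem exists_ovEquiv (hg : g.hom.toRingHom.Flat) (hh : h.hom.toRingHom.Flat) (hF : adequate A F) :
    letI := g.hom.toRingHom.toAlgebra
    letI : Module (B : Type u) (F.obj (pt Q)) := Module.compHom _ h.hom.toRingHom
    ∃ e : (P : Type u) ⊗[(B : Type u)] F.obj (pt Q) ≃+ F.obj (pt (ov g h)),
      ∀ (p : P) (x : F.obj (pt Q)), e ((show (P : Type u) from p) ⊗ₜ x) = (ovL g h).hom p • mapA F (ovR g h) x := by
  letI := g.hom.toRingHom.toAlgebra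
  letI := h.hom.toRingHom.toAlgebra
  letI : Module (B : Type u) (F.obj (pt Q)) := Module.compHom _ h.hom.toRingHom
  haveI : Module.Flat (B : Type u) (P : Type u) := hg
  haveI : Module.Flat (B : Type u) (Q : Type u) := hh
  let φ : B ⟶ ov g h := g ≫ ovL g h
  letI : Algebra (B : Type u) (ov g h : Type u) := φ.hom.toRingHom.toAlgebra
  letI : Module (B : Type u) (F.obj (pt (ov g h))) := Module.compHom _ φ.hom.toRingHom
  have hcomm : ∀ (b : B) (x : F.obj (pt Q)), mapA F (ovR g h) (b • x) = b • mapA F (ovR g h) x := fun b x =>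
    (mapA_smul F (ovR g h) (h.hom b) x).trans
      (congrArg (fun t : (ov g h : Type u) => t • mapA F (ovR g h) x)
        (ConcreteCategory.congr_hom (ov_comm g h) b).symm)
  let bil : (P : Type u) →ₗ[(B : Type u)] F.obj (pt Q) →ₗ[(B : Type u)] F.obj (pt (ov g h)) :=
    LinearMap.mk₂ (B : Type u) (fun p x => (ovL g h).hom p • mapA F (ovR g h) x)
      (fun p p' x => by
        refine (congrArg (fun t : (ov g h : Type u) => t • mapA F (ovR g h) x) ?_).trans (add_smul _ _ _)
        exact map_add (ovL g h).hom p p')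
      (fun b p x => by
        refine (congrArg (fun t : (ov g h : Type u) => t • mapA F (ovR g h) x) ?_).trans (mul_smul _ _ _)
        exact map_mul (ovL g h).hom (g.hom b) p)
      (fun p x x' => by rw [map_add, smul_add])
      (fun b p x => by
        rw [hcomm]
        exact smul_comm ((ovL g h).hom p : (ov g h : Type u)) (φ.hom b) (mapA F (ovR g h) x))
  let E := TensorProduct.lift bil
  let σ : (P : Type u) ⊗[(B : Type u)] (Q : Type u) ≃ₗ[(B : Type u)] (ov g h : Type u) :=
    { toFun := fun w => w
      map_add' := fun _ _ => rfl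
      map_smul' := fun b w => (Algebra.smul_def b w).trans rfl
      invFun := fun w => w
      left_inv := fun _ => rfl
      right_inv := fun _ => rfl }
  haveI : Module.Flat (B : Type u) ((P : Type u) ⊗[(B : Type u)] (Q : Type u)) := Module.Flat.trans _ (P : Type u) _
  haveI hφ : Module.Flat (B : Type u) (ov g h : Type u) := Module.Flat.of_linearEquiv σ.symm
  haveI := adequate_flat hF φ hφ
  haveI := adequate_flat hF h hh
  let b₂ : (Q : Type u) ⊗[(B : Type u)] F.obj (pt B) →ₗ[(B : Type u)] F.obj (pt Q) :=
    { toFun := fun w => (F.bc h).hom w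
      map_add' := fun w w' => map_add (F.bc h).hom w w'
      map_smul' := fun b w => by
        refine (congrArg (F.bc h).hom (show b • w = algebraMap (B : Type u) (Q : Type u) b • w from
          (algebraMap_smul (Q : Type u) b w).symm)).trans ?_
        exact map_smul (F.bc h).hom (h.hom b) w }
  have hb₂ : Function.Bijective b₂ := (ConcreteCategory.isIso_iff_bijective (F.bc h)).1 inferInstance
  have hbig : Function.Bijective (fun w : (P : Type u) ⊗[(B : Type u)] ((Q : Type u) ⊗[(B : Type u)] F.obj (pt B)) =>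
      (F.bc φ).hom ((TensorProduct.congr σ (LinearEquiv.refl _ _))
        ((TensorProduct.assoc (B : Type u) (P : Type u) (Q : Type u) (F.obj (pt B))).symm w))) :=
    ((ConcreteCategory.isIso_iff_bijective (F.bc φ)).1 inferInstance).comp
      ((TensorProduct.congr σ (LinearEquiv.refl _ _)).bijective.comp
        (TensorProduct.assoc (B : Type u) (P : Type u) (Q : Type u) (F.obj (pt B))).symm.bijective)
  have heq : ∀ w, E (b₂.lTensor (P : Type u) w) =
      (F.bc φ).hom ((TensorProduct.congr σ (LinearEquiv.refl _ _))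
        ((TensorProduct.assoc (B : Type u) (P : Type u) (Q : Type u) (F.obj (pt B))).symm w)) := fun w => by
    induction w using TensorProduct.induction_on with
    | zero => exact ((congrArg E (map_zero _)).trans (map_zero E)).trans (map_zero (F.bc φ).hom).symm
    | tmul p w =>
      induction w using TensorProduct.induction_on with
      | zero =>
        rw [TensorProduct.tmul_zero, map_zero, map_zero, map_zero, map_zero]
        exact (map_zero (F.bc φ).hom).symm
      | tmul q n =>
        refine Eq.trans ?_ (bc_tmul F φ ((show (P : Type u) from p) ⊗ₜ[(B : Type u)] (show (Q : Type u) from q)) n).symm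
        change (ovL g h).hom p • mapA F (ovR g h) ((F.bc h).hom (q ⊗ₜ n)) = _
        refine (congrArg (fun t => (ovL g h).hom p • mapA F (ovR g h) t) (bc_tmul F h q n)).trans ?_
        refine (congrArg ((ovL g h).hom p • ·) (mapA_smul F (ovR g h) q _)).trans ?_
        refine (smul_smul _ _ _).trans ?_
        refine congrArg₂ (· • ·) ?_ ((map_comp' F h (ovR g h) n).trans (map_congr F (ov_comm g h) n).symm)
        exact (Algebra.TensorProduct.tmul_mul_tmul _ _ _ _).trans (by rw [mul_one, one_mul])
      | add a c ha hc =>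
        rw [TensorProduct.tmul_add, map_add, map_add, ha, hc, map_add, map_add]
        exact (map_add (F.bc φ).hom _ _).symm
    | add a c ha hc =>
      rw [map_add, map_add, ha, hc, map_add, map_add]
      exact (map_add (F.bc φ).hom _ _).symm
  have hlT : Function.Bijective (b₂.lTensor (P : Type u)) := ((LinearEquiv.ofBijective b₂ hb₂).lTensor (P : Type u)).bijective
  have hE : Function.Bijective E :=
    (Function.Bijective.of_comp_iff _ hlT).1 (by
      convert hbig using 1
      exact funext heq)
  exact ⟨(LinearEquiv.ofBijective E hE).toAddEquiv, fun p x => rfl⟩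

section Cocycle

variable {ι : Type u} [Finite ι] {D : ι → Alg A} (f : ∀ j, B ⟶ D j)
  (hflat : ∀ j, (f j).hom.toRingHom.Flat) (hF : adequate A F)
  (hsurj : ∀ p : PrimeSpectrum (B : Type u), ∃ j, ∃ q : PrimeSpectrum (D j : Type u),
    PrimeSpectrum.comap (f j).hom.toRingHom q = p)

/-- The double overlap of a family. -/
abbrev fo (i j : ι) : Alg A := ov (f i) (f j)

/-- The structure map of a double overlap. -/
abbrev foMap (i j : ι) : B ⟶ fo f i j := f i ≫ ovL (f i) (f j)

/-- The triple overlap of a family. -/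
abbrev fo₃ (k i j : ι) : Alg A := ov (f k) (foMap f i j)

/-- The face omitting the third member. -/
abbrev face₂ (k i j : ι) : fo f k i ⟶ fo₃ f k i j :=
  ovLift (f k) (f i) (ovL _ _) (ovL (f i) (f j) ≫ ovR (f k) (foMap f i j)) (by
    rw [ov_comm (f k) (foMap f i j), Category.assoc])

/-- The face omitting the second member. -/
abbrev face₁ (k i j : ι) : fo f k j ⟶ fo₃ f k i j :=
  ovLift (f k) (f j) (ovL _ _) (ovR (f i) (f j) ≫ ovR (f k) (foMap f i j)) (by
    rw [ov_comm (f k) (foMap f i j), ← Category.assoc, ← ov_comm (f i) (f j), Category.assoc])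

include hflat hF hsurj in
/-- A cocycle of an adequate functor on a flat covering is a coboundary. -/
theorem exists_coboundary (c : ∀ i j, F.obj (pt (fo f i j)))
    (hc : ∀ k i j, mapA F (ovR (f k) (foMap f i j)) (c i j) =
      mapA F (face₁ f k i j) (c k j) - mapA F (face₂ f k i j) (c k i)) :
    ∃ b : ∀ i, F.obj (pt (D i)), ∀ i j, c i j = mapA F (ovR (f i) (f j)) (b j) - mapA F (ovL (f i) (f j)) (b i) := by
  classical
  haveI := Fintype.ofFinite ι
  letI := fun j => (f j).hom.toRingHom.toAlgebra
  haveI : ∀ j, Module.Flat (B : Type u) (D j : Type u) := hflat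
  haveI := faithfullyFlat_pi (B := (B : Type u)) (fun j => (D j : Type u)) hsurj
  have hfo : ∀ i j, (foMap f i j).hom.toRingHom.Flat := fun i j => by
    haveI : Module.Flat (B : Type u) ((D i : Type u) ⊗[(B : Type u)] (D j : Type u)) := Module.Flat.trans _ (D i : Type u) _
    letI : Algebra (B : Type u) (fo f i j : Type u) := (foMap f i j).hom.toRingHom.toAlgebra
    let σ : (D i : Type u) ⊗[(B : Type u)] (D j : Type u) ≃ₗ[(B : Type u)] (fo f i j : Type u) :=
      { toFun := fun w => w
        map_add' := fun _ _ => rfl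
        map_smul' := fun b w => (Algebra.smul_def b w).trans rfl
        invFun := fun w => w
        left_inv := fun _ => rfl
        right_inv := fun _ => rfl }
    exact Module.Flat.of_linearEquiv σ.symm
  letI := fun i => (Module.compHom (F.obj (pt (D i))) (f i).hom.toRingHom : Module (B : Type u) (F.obj (pt (D i))))
  letI := fun ij : ι × ι => (Module.compHom (F.obj (pt (fo f ij.1 ij.2))) (foMap f ij.1 ij.2).hom.toRingHom :
    Module (B : Type u) (F.obj (pt (fo f ij.1 ij.2))))
  let ψ : (∀ i, F.obj (pt (D i))) →ₗ[(B : Type u)] (∀ ij : ι × ι, F.obj (pt (fo f ij.1 ij.2))) :=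
    { toFun := fun b ij => mapA F (ovR (f ij.1) (f ij.2)) (b ij.2) - mapA F (ovL (f ij.1) (f ij.2)) (b ij.1)
      map_add' := fun b b' => funext fun ij => by
        simp only [Pi.add_apply, map_add]
        exact add_sub_add_comm _ _ _ _
      map_smul' := fun r b => funext fun ij => by
        have h1 : mapA F (ovR (f ij.1) (f ij.2)) (r • b ij.2) = r • mapA F (ovR (f ij.1) (f ij.2)) (b ij.2) :=
          (mapA_smul F _ ((f ij.2).hom r) _).trans (congrArg (· • mapA F (ovR (f ij.1) (f ij.2)) (b ij.2))
            (ConcreteCategory.congr_hom (ov_comm (f ij.1) (f ij.2)) r).symm)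
        have h2 : mapA F (ovL (f ij.1) (f ij.2)) (r • b ij.1) = r • mapA F (ovL (f ij.1) (f ij.2)) (b ij.1) :=
          mapA_smul F _ ((f ij.1).hom r) _
        simp only [Pi.smul_apply, RingHom.id_apply, h1, h2]
        exact (smul_sub _ _ _).symm }
  let C : ∀ ij : ι × ι, F.obj (pt (fo f ij.1 ij.2)) := fun ij => c ij.1 ij.2
  suffices hC : C ∈ LinearMap.range ψ by
    obtain ⟨b, hb⟩ := hC
    exact ⟨b, fun i j => (congrFun hb (i, j)).symm⟩
  rw [← Submodule.Quotient.mk_eq_zero]
  refine family_separated (B := (B : Type u)) (fun j => (D j : Type u)) _ fun k => ?_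
  choose e₁ he₁ using fun i => exists_ovEquiv (F := F) (f k) (f i) (hflat k) (hflat i) hF
  choose e₂ he₂ using fun ij : ι × ι => exists_ovEquiv (F := F) (f k) (foMap f ij.1 ij.2) (hflat k) (hfo ij.1 ij.2) hF
  let π₁ := TensorProduct.piRight (B : Type u) (B : Type u) (D k : Type u) fun i => F.obj (pt (D i))
  let π₂ := TensorProduct.piRight (B : Type u) (B : Type u) (D k : Type u) fun ij : ι × ι => F.obj (pt (fo f ij.1 ij.2))
  let z := π₁.symm fun i => (e₁ i).symm (c k i)
  have hψ : ∀ (w : (D k : Type u) ⊗[(B : Type u)] (∀ i, F.obj (pt (D i)))) (i j : ι),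
      e₂ (i, j) (π₂ (ψ.lTensor (D k : Type u) w) (i, j)) =
        mapA F (face₁ f k i j) (e₁ j (π₁ w j)) - mapA F (face₂ f k i j) (e₁ i (π₁ w i)) := fun w i j => by
    induction w using TensorProduct.induction_on with
    | zero => simp only [map_zero, Pi.zero_apply, sub_zero]
    | tmul p b =>
      simp only [π₁, π₂, LinearMap.lTensor_tmul, TensorProduct.piRight_apply, TensorProduct.piRightHom_tmul, he₁]
      rw [mapA_smul, mapA_smul, he₂]
      change _ • mapA F _ (mapA F (ovR (f i) (f j)) (b j) - mapA F (ovL (f i) (f j)) (b i)) = _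
      rw [map_sub, smul_sub, map_comp', map_comp', map_comp', map_comp', map_congr F (ovR_lift _ _ _ _ _),
        map_congr F (ovR_lift _ _ _ _ _)]
      refine congrArg₂ (fun s t : (fo₃ f k i j : Type u) => s • mapA F (ovR (f i) (f j) ≫ ovR (f k) (foMap f i j)) (b j) -
        t • mapA F (ovL (f i) (f j) ≫ ovR (f k) (foMap f i j)) (b i)) ?_ ?_
      · exact (ConcreteCategory.congr_hom (ovL_lift (f k) (f j) _ _ _) p).symm
      · exact (ConcreteCategory.congr_hom (ovL_lift (f k) (f i) _ _ _) p).symm
    | add a b ha hb =>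
      simp only [map_add, Pi.add_apply, ha, hb]
      abel
  have hz : ψ.lTensor (D k : Type u) z = (1 : (D k : Type u)) ⊗ₜ[(B : Type u)] C := by
    refine π₂.injective (funext fun ⟨i, j⟩ => (e₂ (i, j)).injective ?_)
    rw [hψ]
    simp only [z, LinearEquiv.apply_symm_apply, AddEquiv.apply_symm_apply]
    simp only [π₂, TensorProduct.piRight_apply, TensorProduct.piRightHom_tmul]
    refine (hc k i j).symm.trans ((he₂ (i, j) 1 (C (i, j))).trans ?_).symm
    exact (congrArg (· • _) (map_one (ovL (f k) (foMap f i j)).hom)).trans (one_smul _ _)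
  rw [show (1 : (D k : Type u)) ⊗ₜ[(B : Type u)] (Submodule.Quotient.mk C : _ ⧸ LinearMap.range ψ) =
    (LinearMap.range ψ).mkQ.lTensor (D k : Type u) ((1 : (D k : Type u)) ⊗ₜ[(B : Type u)] C) from rfl, ← hz,
    ← LinearMap.lTensor_comp_apply, LinearMap.range_mkQ_comp, LinearMap.lTensor_zero, LinearMap.zero_apply]

end Cocycle

end GrothLib.Adeq20
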