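import Groth.Agent.Lib.Adeq20.Ext
import Mathlib.CategoryTheory.Adjunction.Comma
import Mathlib.CategoryTheory.Limits.Shapes.Terminal

/-!
# The coreflection to adequate functors
-/

set_option autoImplicit false
set_option linter.style.haveILetI false

universe u

open CategoryTheory CategoryTheory.Limits Opposite TensorProduct

noncomputable section

namespace GrothLib.Adeq20

open Adeq

variable {A : Type u} [CommRing A]

variable (A) in
/-- Indices for the linearly adequate functors in standard form. -/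
abbrev LinIdx : Type (u + 1) := Σ (n : ℕ) (m : ℕ), std A n ⟶ std A m

/-- The linearly adequate functor of an index. -/
abbrev linObj (x : LinIdx A) : MVF A := kernel ((underline A).map x.2.2)

theorem linAdequate_linObj (x : LinIdx A) : linAdequate A (linObj x) :=
  ⟨_, _, x.2.2, Module.Finite.equiv ULift.moduleEquiv.symm, Module.Free.of_basis (stdBasis A _),
    Module.Finite.equiv ULift.moduleEquiv.symm, Module.Free.of_basis (stdBasis A _), ⟨Iso.refl _⟩⟩

theorem adequate_linObj (x : LinIdx A) : adequate A (linObj x) := ⟨_, _, _, ⟨Iso.refl _⟩⟩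

/-- An adequate functor is a quotient of a coproduct of standard linearly adequate ones. -/
theorem exists_sigma_cover {F : MVF A} (hF : adequate A F) :
    ∃ (X : Type (u + 1)) (idx : X → LinIdx A) (π : ∐ (fun x => linObj (idx x)) ⟶ F), Epi π := by
  obtain ⟨K, T, i, τ, hinj, hrange⟩ := exists_range_of_adequate hF
  obtain ⟨e, he⟩ := exists_iso_kernel i ((underline A).map τ) hinj hrange
  let idx : CoverIdx τ → LinIdx A := fun x => ⟨x.1, x.2.1, x.2.2.1⟩
  have w : ∀ x : CoverIdx τ, (kernel.ι ((underline A).map x.2.2.1) ≫ (underline A).map x.2.2.2.1) ≫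
      (underline A).map τ = 0 := fun x => hom_ext' fun B z =>
    x.2.2.2.2 B _ (kernelι_appL ((underline A).map x.2.2.1) B z)
  let φ : ∀ x : CoverIdx τ, linObj (idx x) ⟶ F := fun x => kernel.lift _ _ (w x) ≫ e.inv
  have hφ : ∀ x, φ x ≫ i = kernel.ι ((underline A).map x.2.2.1) ≫ (underline A).map x.2.2.2.1 := fun x => by
    rw [← he]
    simp [φ]
  refine ⟨CoverIdx τ, idx, Sigma.desc φ, epi_of_surjective' _ fun B v => ?_⟩
  obtain ⟨n, m, a, μ, hμ, z, hz, hzx⟩ := exists_lin_lift τ B (appL i B v) ((hrange B _).2 ⟨v, rfl⟩)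
  let x : CoverIdx τ := ⟨n, m, a, μ, hμ⟩
  obtain ⟨z', hz'⟩ := mem_range_kernelι ((underline A).map a) B z hz
  refine ⟨appL (Sigma.ι (fun x => linObj (idx x)) x) B z', hinj B ?_⟩
  rw [← comp_appL, ← comp_appL, Sigma.ι_desc_assoc]
  refine (congrArg (fun f => appL f B z') (hφ x)).trans ?_
  exact (congrArg (μ.hom.baseChange (B : Type u)) hz').trans hzx

variable (F : MVF A)

/-- The first stage. -/
abbrev P₀ : MVF A := ∐ fun i : (Σ x : LinIdx A, linObj x ⟶ F) => linObj i.1

/-- The tautological map. -/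
def ev₀ : P₀ F ⟶ F := Sigma.desc fun i => i.2

/-- The relations. -/
def rel₀ : (∐ fun i : (Σ x : LinIdx A, {g : linObj x ⟶ P₀ F // g ≫ ev₀ F = 0}) => linObj i.1) ⟶ P₀ F :=
  Sigma.desc fun i => i.2.1

/-- The coreflection. -/
abbrev core : MVF A := cokernel (rel₀ F)

/-- The counit. -/
def coreε : core F ⟶ F := cokernel.desc _ (ev₀ F) (Sigma.hom_ext _ _ fun i => by
  rw [rel₀, Sigma.ι_desc_assoc, comp_zero]
  exact i.2.2)

theorem coreπ_ε : cokernel.π (rel₀ F) ≫ coreε F = ev₀ F := cokernel.π_desc _ _ _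

theorem adequate_core : adequate A (core F) :=
  adequate_cokernel _ (adequate_sigma _ fun i => adequate_linObj i.1) (adequate_sigma _ fun i => adequate_linObj i.1)

theorem coreε_injective_lin (x : LinIdx A) (h : linObj x ⟶ core F) (hh : h ≫ coreε F = 0) : h = 0 := by
  let π : P₀ F ⟶ core F := cokernel.π (rel₀ F)
  haveI : Epi π := inferInstanceAs (Epi (cokernel.π (rel₀ F)))
  let S : ShortComplex (MVF A) := ShortComplex.mk (kernel.ι π) π (kernel.condition π)
  haveI : Mono S.f := inferInstanceAs (Mono (kernel.ι π))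
  haveI : Epi S.g := inferInstanceAs (Epi π)
  have hS : S.ShortExact := { exact := S.exact_of_f_is_kernel (kernelIsKernel π) }
  have hP : adequate A (P₀ F) := adequate_sigma _ fun i => adequate_linObj i.1
  obtain ⟨ψ, hψ⟩ := exists_lift_lin hS (adequate_kernel π hP (adequate_core F)) (adequate_core F)
    (linAdequate_linObj x) h
  have hψ0 : ψ ≫ ev₀ F = 0 := by
    rw [← coreπ_ε, ← Category.assoc]
    exact (congrArg (· ≫ coreε F) hψ).trans hh
  have e : Sigma.ι (fun i : (Σ x : LinIdx A, {g : linObj x ⟶ P₀ F // g ≫ ev₀ F = 0}) => linObj i.1) ⟨x, ψ, hψ0⟩ ≫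
      rel₀ F = ψ := Sigma.ι_desc _ _
  rw [← hψ]
  change ψ ≫ π = 0
  rw [← e, Category.assoc, cokernel.condition, comp_zero]

theorem coreε_injective {X : MVF A} (hX : adequate A X) (h : X ⟶ core F) (hh : h ≫ coreε F = 0) : h = 0 := by
  obtain ⟨ι, idx, π, hπ⟩ := exists_sigma_cover hX
  rw [← cancel_epi π, comp_zero]
  refine Sigma.hom_ext _ _ fun i => ?_
  rw [comp_zero]
  exact coreε_injective_lin F _ _ (by rw [Category.assoc, Category.assoc, hh, comp_zero, comp_zero])

theorem exists_core_lift {X : MVF A} (hX : adequate A X) (f : X ⟶ F) : ∃ g : X ⟶ core F, g ≫ coreε F = f := by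
  obtain ⟨ι, idx, π, hπ⟩ := exists_sigma_cover hX
  let g₀ : (∐ fun i => linObj (idx i)) ⟶ core F := Sigma.desc fun i =>
    Sigma.ι (fun j : (Σ x : LinIdx A, linObj x ⟶ F) => linObj j.1)
      ⟨idx i, Sigma.ι (fun i => linObj (idx i)) i ≫ π ≫ f⟩ ≫ cokernel.π (rel₀ F)
  have hg₀ : g₀ ≫ coreε F = π ≫ f := Sigma.hom_ext _ _ fun i => by
    rw [Sigma.ι_desc_assoc, Category.assoc, coreπ_ε, ev₀]
    exact Sigma.ι_desc _ _
  have hk : kernel.ι π ≫ g₀ = 0 :=
    coreε_injective F (adequate_kernel π (adequate_sigma _ fun i => adequate_linObj _) hX) _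
      (by rw [Category.assoc, hg₀, kernel.condition_assoc, zero_comp])
  refine ⟨Abelian.epiDesc π g₀ hk, ?_⟩
  rw [← cancel_epi π, ← Category.assoc, Abelian.comp_epiDesc, hg₀]

/-- The inclusion of adequate functors has a right adjoint. -/
theorem isLeftAdjoint_ι : (adequate A).ι.IsLeftAdjoint := by
  rw [isLeftAdjoint_iff_hasTerminal_costructuredArrow]
  intro F
  let T : CostructuredArrow (adequate A).ι F :=
    CostructuredArrow.mk (show (adequate A).ι.obj ⟨core F, adequate_core F⟩ ⟶ F from coreε F)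
  choose g hg using fun Y : CostructuredArrow (adequate A).ι F => exists_core_lift F Y.left.2 Y.hom
  refine IsTerminal.hasTerminal (X := T) (IsTerminal.ofUniqueHom (fun Y => CostructuredArrow.homMk
    (show Y.left ⟶ (⟨core F, adequate_core F⟩ : (adequate A).FullSubcategory) from ObjectProperty.homMk (g Y)) (hg Y)) ?_)
  intro Y m
  refine CostructuredArrow.hom_ext _ _ (ObjectProperty.hom_ext _ (sub_eq_zero.1 ?_))
  refine coreε_injective F Y.left.2 _ ?_
  refine (Preadditive.sub_comp ..).trans (sub_eq_zero.2 ?_)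
  exact (CostructuredArrow.w m).trans (hg Y).symm

end GrothLib.Adeq20
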