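import Groth.Agent.Lib.Adeq20.Lin
import Mathlib.LinearAlgebra.TensorProduct.Finiteness
import Mathlib.Algebra.DirectSum.Module
import Mathlib.LinearAlgebra.Finsupp.Supported

/-!
# Every adequate functor is covered by linearly adequate ones
-/

set_option autoImplicit false
set_option linter.style.haveILetI false
set_option maxHeartbeats 1000000

universe u

open CategoryTheory CategoryTheory.Limits Opposite TensorProduct

noncomputable section

namespace GrothLib.Adeq20

open Adeq

variable {A : Type u} [CommRing A]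

variable (A) in
/-- The standard free module. -/
abbrev std (n : ℕ) : ModuleCat.{u + 1} A := ModuleCat.of A (ULift.{u + 1} (Fin n → A))

variable (A) in
/-- Its basis. -/
def stdBasis (n : ℕ) : Module.Basis (Fin n) A (std A n) := (Pi.basisFun A (Fin n)).map ULift.moduleEquiv.symm

variable {M N : ModuleCat.{u + 1} A}

/-- Finitely supported coordinates factor through a standard free module. -/
theorem exists_restrict {ι : Type (u + 1)} (T : Finset ι) :
    ∃ (m : ℕ) (r : (ι →₀ A) →ₗ[A] std A m) (e : std A m →ₗ[A] (ι →₀ A)),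
      ∀ v : ι →₀ A, v.support ⊆ T → e (r v) = v := by
  classical
  let eT : Fin T.card ≃ ↥T := T.equivFin.symm
  refine ⟨T.card, ULift.moduleEquiv.symm.toLinearMap ∘ₗ LinearMap.pi fun l => Finsupp.lapply (eT l).1,
    (Fintype.linearCombination A fun l => Finsupp.single (eT l).1 (1 : A)) ∘ₗ ULift.moduleEquiv.toLinearMap,
    fun v hv => ?_⟩
  simp only [LinearMap.comp_apply, LinearEquiv.coe_coe, LinearEquiv.apply_symm_apply,
    Fintype.linearCombination_apply, LinearMap.pi_apply, Finsupp.lapply_apply, Finsupp.smul_single,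
    smul_eq_mul, mul_one]
  rw [Equiv.sum_comp eT fun t : ↥T => Finsupp.single t.1 (v t.1),
    Finset.sum_coe_sort T fun t => Finsupp.single t (v t),
    ← Finset.sum_subset hv fun t _ ht => by rw [Finsupp.notMem_support_iff.1 ht, Finsupp.single_zero]]
  exact Finsupp.sum_single v

/-- A relation between finitely many lifted values is governed by finitely many linear equations. -/
theorem exists_lin_lift_aux (φ : M ⟶ N) {p : ℕ} (vec : Fin p → M) (gen : Fin p → ((N : Type (u + 1)) →₀ A))
    (hvec : ∀ j, φ.hom (vec j) = Finsupp.linearCombination A id (gen j)) (B : Alg A) (c : Fin p → B)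
    (hc : ∑ j, c j ⊗ₜ[A] gen j = 0) :
    ∃ (m : ℕ) (a : std A p ⟶ std A m) (μ : std A p ⟶ M),
      (∀ (B' : Alg A) (z : (B' : Type u) ⊗[A] std A p), a.hom.baseChange B' z = 0 →
        φ.hom.baseChange B' (μ.hom.baseChange B' z) = 0) ∧
      ∃ z : (B : Type u) ⊗[A] std A p, a.hom.baseChange B z = 0 ∧
        μ.hom.baseChange B z = ∑ j, c j ⊗ₜ[A] vec j := by
  classical
  obtain ⟨m, r, e, her⟩ := exists_restrict (A := A) (Finset.univ.biUnion fun j => (gen j).support)
  let full : (std A p : Type (u + 1)) →ₗ[A] ((N : Type (u + 1)) →₀ A) := (stdBasis A p).constr A gen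
  have hfull : e ∘ₗ r ∘ₗ full = full := (stdBasis A p).ext fun j => by
    simp only [LinearMap.comp_apply, full, Module.Basis.constr_basis]
    exact her _ fun v hv => Finset.mem_biUnion.2 ⟨j, Finset.mem_univ _, hv⟩
  let μ : std A p ⟶ M := ModuleCat.ofHom ((stdBasis A p).constr A vec)
  have hφμ : φ.hom ∘ₗ μ.hom = Finsupp.linearCombination A id ∘ₗ full := (stdBasis A p).ext fun j => by
    simp only [μ, full, LinearMap.comp_apply, ModuleCat.hom_ofHom, Module.Basis.constr_basis, hvec]
  refine ⟨m, ModuleCat.ofHom (r ∘ₗ full), μ, fun B' z hz => ?_, ∑ j, c j ⊗ₜ[A] stdBasis A p j, ?_, ?_⟩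
  · change φ.hom.lTensor (B' : Type u) (μ.hom.lTensor (B' : Type u) z) = 0
    rw [← LinearMap.lTensor_comp_apply, hφμ, ← hfull, LinearMap.lTensor_comp_apply, LinearMap.lTensor_comp_apply]
    exact (congrArg _ ((congrArg _ hz).trans (map_zero _))).trans (map_zero _)
  · have h0 : full.lTensor (B : Type u) (∑ j, c j ⊗ₜ[A] stdBasis A p j) = 0 := by
      rw [map_sum]
      simp only [LinearMap.lTensor_tmul, full, Module.Basis.constr_basis]
      exact hc
    change (r ∘ₗ full).lTensor (B : Type u) _ = 0
    rw [LinearMap.lTensor_comp_apply, h0, map_zero]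
  · rw [map_sum]
    simp only [LinearMap.baseChange_tmul, μ, ModuleCat.hom_ofHom, Module.Basis.constr_basis]

theorem exists_fin_sum {B : Type u} [AddCommMonoid B] [Module A B] {P : Type (u + 1)} [AddCommMonoid P] [Module A P]
    (x : B ⊗[A] P) : ∃ (p : ℕ) (b : Fin p → B) (v : Fin p → P), x = ∑ j, b j ⊗ₜ[A] v j := by
  obtain ⟨S, hS⟩ := TensorProduct.exists_finset x
  refine ⟨S.card, fun j => (S.equivFin.symm j).1.1, fun j => (S.equivFin.symm j).1.2, ?_⟩
  rw [hS, Equiv.sum_comp S.equivFin.symm fun i : ↥S => i.1.1 ⊗ₜ[A] i.1.2,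
    Finset.sum_coe_sort S fun i => i.1 ⊗ₜ[A] i.2]

theorem exists_ker_lift {R : Type u} [CommRing R] {P P' : Type (u + 1)} [AddCommGroup P] [Module R P]
    [AddCommGroup P'] [Module R P'] {Q : Type u} [AddCommGroup Q] [Module R Q] (π : P →ₗ[R] P')
    (hπ : Function.Surjective π) (w : Q ⊗[R] P) (hw : π.lTensor Q w = 0) :
    ∃ w' : Q ⊗[R] (LinearMap.ker π), (LinearMap.ker π).subtype.lTensor Q w' = w :=
  (lTensor_exact Q (LinearMap.exact_subtype_ker_map π) hπ w).1 hw

/-- Every solution of linear equations comes from a solution of finitely many of them. -/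
theorem exists_lin_lift (φ : M ⟶ N) (B : Alg A) (x : (B : Type u) ⊗[A] M) (hx : φ.hom.baseChange B x = 0) :
    ∃ (n m : ℕ) (a : std A n ⟶ std A m) (μ : std A n ⟶ M),
      (∀ (B' : Alg A) (z : (B' : Type u) ⊗[A] std A n), a.hom.baseChange B' z = 0 →
        φ.hom.baseChange B' (μ.hom.baseChange B' z) = 0) ∧
      ∃ z : (B : Type u) ⊗[A] std A n, a.hom.baseChange B z = 0 ∧ μ.hom.baseChange B z = x := by
  classical
  obtain ⟨p, b, v, rfl⟩ := exists_fin_sum x
  let π : ((N : Type (u + 1)) →₀ A) →ₗ[A] N := Finsupp.linearCombination A id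
  have hπ : Function.Surjective π := fun y => ⟨Finsupp.single y 1, by simp [π]⟩
  let w : (B : Type u) ⊗[A] ((N : Type (u + 1)) →₀ A) := ∑ j, b j ⊗ₜ[A] Finsupp.single (φ.hom (v j)) 1
  have hw : π.lTensor (B : Type u) w = 0 := by
    refine Eq.trans ?_ hx
    rw [map_sum, map_sum]
    exact Finset.sum_congr rfl fun j _ => (LinearMap.lTensor_tmul _ _ _ _).trans (by simp [π])
  obtain ⟨w', hw'⟩ := exists_ker_lift π hπ w hw
  obtain ⟨q, d, r, rfl⟩ := exists_fin_sum w'
  rw [map_sum] at hw'
  obtain ⟨m, a, μ, h1, z, h2, h3⟩ := exists_lin_lift_aux φ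
    (Fin.append v fun _ : Fin q => 0) (Fin.append (fun j => Finsupp.single (φ.hom (v j)) 1) fun k => (r k).1)
    (fun j => Fin.addCases (fun i => by simp [Fin.append_left])
      (fun k => by simpa [Fin.append_right] using ((r k).2 : π (r k).1 = 0).symm) j)
    B (Fin.append b fun k => -d k) (by
      simp only [Fin.sum_univ_add, Fin.append_left, Fin.append_right, TensorProduct.neg_tmul,
        Finset.sum_neg_distrib, add_neg_eq_zero]
      exact hw'.symm.trans (Finset.sum_congr rfl fun k _ => LinearMap.lTensor_tmul _ _ _ _))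
  refine ⟨p + q, m, a, μ, h1, z, h2, h3.trans ?_⟩
  simp only [Fin.sum_univ_add, Fin.append_left, Fin.append_right, TensorProduct.tmul_zero,
    Finset.sum_const_zero, add_zero]

/-- The indices of the canonical cover. -/
abbrev CoverIdx (τ : M ⟶ N) : Type (u + 1) :=
  Σ (n : ℕ) (m : ℕ) (a : std A n ⟶ std A m), {μ : std A n ⟶ M //
    ∀ (B : Alg A) (z : (B : Type u) ⊗[A] std A n), a.hom.baseChange B z = 0 →
      τ.hom.baseChange B (μ.hom.baseChange B z) = 0}

section DirectSum

variable {X : Type (u + 1)} (d : X → ℕ)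

/-- A sum of standard free modules. -/
abbrev sumStd : ModuleCat.{u + 1} A := ModuleCat.of A (DirectSum X fun x => (std A (d x) : Type (u + 1)))

variable [DecidableEq X]

/-- The inclusion. -/
abbrev incl (x : X) : (std A (d x) : Type (u + 1)) →ₗ[A] DirectSum X fun y => (std A (d y) : Type (u + 1)) :=
  DirectSum.lof A X (fun y => (std A (d y) : Type (u + 1))) x

/-- The projection. -/
abbrev proj (x : X) : (DirectSum X fun y => (std A (d y) : Type (u + 1))) →ₗ[A] (std A (d x) : Type (u + 1)) :=
  DirectSum.component A X (fun y => (std A (d y) : Type (u + 1))) x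

theorem exists_sum_proj (B : Type u) [AddCommGroup B] [Module A B] (z : B ⊗[A] sumStd (A := A) d) :
    ∃ s : Finset X, ∀ t, s ⊆ t → ∑ x ∈ t, (incl d x).lTensor B ((proj d x).lTensor B z) = z := by
  induction z using TensorProduct.induction_on with
  | zero => exact ⟨∅, fun t _ => by simp⟩
  | tmul b v =>
    suffices h : ∃ s : Finset X, ∀ t, s ⊆ t → ∑ x ∈ t, incl d x (proj d x v) = v by
      obtain ⟨s, hs⟩ := h
      exact ⟨s, fun t ht => by simp only [LinearMap.lTensor_tmul, ← TensorProduct.tmul_sum]; rw [hs t ht]⟩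
    induction v using DirectSum.induction_on with
    | zero => exact ⟨∅, fun t _ => by simp⟩
    | of y w =>
      refine ⟨{y}, fun t ht => ?_⟩
      rw [← DirectSum.lof_eq_of A, Finset.sum_eq_single y]
      · rw [DirectSum.component.lof_self]
      · intro x _ hxy
        rw [DirectSum.component.of, dif_neg (Ne.symm hxy), map_zero]
      · exact fun h => absurd (ht (Finset.mem_singleton_self y)) h
    | add p q hp hq =>
      obtain ⟨s, hs⟩ := hp
      obtain ⟨t, ht⟩ := hq
      refine ⟨s ∪ t, fun r hr => ?_⟩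
      simp only [map_add, Finset.sum_add_distrib]
      rw [hs r (Finset.union_subset_left hr), ht r (Finset.union_subset_right hr)]
  | add a b ha hb =>
    obtain ⟨s, hs⟩ := ha
    obtain ⟨t, ht⟩ := hb
    refine ⟨s ∪ t, fun r hr => ?_⟩
    simp only [map_add, Finset.sum_add_distrib]
    rw [hs r (Finset.union_subset_left hr), ht r (Finset.union_subset_right hr)]

/-- A sum of maps. -/
def mapSum (d' : X → ℕ) (f : ∀ x, std A (d x) ⟶ std A (d' x)) : sumStd (A := A) d ⟶ sumStd (A := A) d' :=
  ModuleCat.ofHom (DirectSum.toModule A X _ fun x => incl d' x ∘ₗ (f x).hom)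

/-- A map out of a sum. -/
def descSum (M : ModuleCat.{u + 1} A) (g : ∀ x, std A (d x) ⟶ M) : sumStd (A := A) d ⟶ M :=
  ModuleCat.ofHom (DirectSum.toModule A X M fun x => (g x).hom)

theorem descSum_incl (M : ModuleCat.{u + 1} A) (g : ∀ x, std A (d x) ⟶ M) (x : X) :
    (descSum d M g).hom ∘ₗ incl d x = (g x).hom :=
  LinearMap.ext fun v => by simp [descSum, mapSum, incl]

theorem mapSum_incl (d' : X → ℕ) (f : ∀ x, std A (d x) ⟶ std A (d' x)) (x : X) :
    (mapSum d d' f).hom ∘ₗ incl d x = incl d' x ∘ₗ (f x).hom :=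
  LinearMap.ext fun v => by simp [descSum, mapSum, incl]

theorem proj_mapSum (d' : X → ℕ) (f : ∀ x, std A (d x) ⟶ std A (d' x)) (x : X) :
    proj d' x ∘ₗ (mapSum d d' f).hom = (f x).hom ∘ₗ proj d x := by
  refine DirectSum.linearMap_ext A fun y => LinearMap.ext fun v => ?_
  simp only [LinearMap.comp_apply]
  have e : (mapSum d d' f).hom (incl d y v) = incl d' y ((f y).hom v) := LinearMap.congr_fun (mapSum_incl d d' f y) v
  refine (congrArg (proj d' x) e).trans ?_
  by_cases hxy : y = x
  · subst hxy
    simp only [DirectSum.component.lof_self]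
  · simp only [DirectSum.component.of, dif_neg hxy, map_zero]

theorem proj_mem_ker (d' : X → ℕ) (f : ∀ x, std A (d x) ⟶ std A (d' x)) (B : Alg A)
    (z : (B : Type u) ⊗[A] sumStd (A := A) d) (hz : (mapSum d d' f).hom.baseChange B z = 0) (x : X) :
    (f x).hom.baseChange B ((proj d x).lTensor (B : Type u) z) = 0 := by
  change (f x).hom.lTensor (B : Type u) _ = 0
  rw [← LinearMap.lTensor_comp_apply, ← proj_mapSum, LinearMap.lTensor_comp_apply]
  exact (congrArg _ hz).trans (map_zero _)

theorem incl_mem_ker (d' : X → ℕ) (f : ∀ x, std A (d x) ⟶ std A (d' x)) (B : Alg A) (x : X)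
    (z : (B : Type u) ⊗[A] std A (d x)) (hz : (f x).hom.baseChange B z = 0) :
    (mapSum d d' f).hom.baseChange B ((incl d x).lTensor (B : Type u) z) = 0 := by
  change (mapSum d d' f).hom.lTensor (B : Type u) _ = 0
  rw [← LinearMap.lTensor_comp_apply, mapSum_incl, LinearMap.lTensor_comp_apply]
  exact (congrArg _ hz).trans (map_zero _)

theorem descSum_incl_baseChange (M : ModuleCat.{u + 1} A) (g : ∀ x, std A (d x) ⟶ M) (B : Alg A) (x : X)
    (z : (B : Type u) ⊗[A] std A (d x)) :
    (descSum d M g).hom.baseChange B ((incl d x).lTensor (B : Type u) z) = (g x).hom.baseChange B z := by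
  change (descSum d M g).hom.lTensor (B : Type u) _ = (g x).hom.lTensor (B : Type u) z
  rw [← LinearMap.lTensor_comp_apply, descSum_incl]

theorem descSum_ker (d' : X → ℕ) (f : ∀ x, std A (d x) ⟶ std A (d' x)) (M N : ModuleCat.{u + 1} A)
    (g : ∀ x, std A (d x) ⟶ M) (τ : M ⟶ N)
    (h : ∀ x (B : Alg A) (z : (B : Type u) ⊗[A] std A (d x)), (f x).hom.baseChange B z = 0 →
      τ.hom.baseChange B ((g x).hom.baseChange B z) = 0)
    (B : Alg A) (z : (B : Type u) ⊗[A] sumStd (A := A) d) (hz : (mapSum d d' f).hom.baseChange B z = 0) :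
    τ.hom.baseChange B ((descSum d M g).hom.baseChange B z) = 0 := by
  obtain ⟨s, hs⟩ := exists_sum_proj d (B : Type u) z
  rw [← hs s subset_rfl, map_sum, map_sum]
  refine Finset.sum_eq_zero fun x _ => ?_
  rw [descSum_incl_baseChange]
  exact h x B _ (proj_mem_ker d d' f B z hz x)

theorem exists_extension_sum (d' : X → ℕ) (f : ∀ x, std A (d x) ⟶ std A (d' x)) (L : ModuleCat.{u + 1} A)
    (φ : kernel ((underline A).map (mapSum d d' f)) ⟶ (underline A).obj L) :
    ∃ g : sumStd (A := A) d ⟶ L,
      kernel.ι ((underline A).map (mapSum d d' f)) ≫ (underline A).map g = φ := by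
  have hx : ∀ x : X, ∃ g : std A (d x) ⟶ L, ∀ (B : Alg A) (z : (kernel ((underline A).map (f x))).obj (pt B))
      (z' : (kernel ((underline A).map (mapSum d d' f))).obj (pt B)),
      appL (kernel.ι ((underline A).map (mapSum d d' f))) B z' =
        (incl d x).lTensor (B : Type u) (appL (kernel.ι ((underline A).map (f x))) B z) →
      appL φ B z' = g.hom.baseChange B (appL (kernel.ι ((underline A).map (f x))) B z) := fun x => by
    let j : kernel ((underline A).map (f x)) ⟶ kernel ((underline A).map (mapSum d d' f)) :=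
      kernel.map _ _ ((underline A).map (ModuleCat.ofHom (incl d x))) ((underline A).map (ModuleCat.ofHom (incl d' x)))
        (by
          rw [← Functor.map_comp, ← Functor.map_comp]
          exact congrArg _ (ModuleCat.hom_ext (mapSum_incl d d' f x).symm))
    obtain ⟨g, hg⟩ := exists_extension (stdBasis A _) (stdBasis A _) (f x) L (j ≫ φ)
    refine ⟨g, fun B z z' hzz' => ?_⟩
    have e1 : appL j B z = z' := injective_appL (kernel.ι ((underline A).map (mapSum d d' f))) B (by
      rw [← comp_appL, kernel.lift_ι, hzz']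
      rfl)
    rw [← e1, ← comp_appL, ← hg]
    rfl
  choose g hg using hx
  refine ⟨descSum d L g, hom_ext' fun B z => ?_⟩
  let y := appL (kernel.ι ((underline A).map (mapSum d d' f))) B z
  obtain ⟨s, hs⟩ := exists_sum_proj d (B : Type u) y
  have hy := proj_mem_ker d d' f B y (kernelι_appL ((underline A).map (mapSum d d' f)) B z)
  choose zx hzx using fun x => mem_range_kernelι ((underline A).map (f x)) B _ (hy x)
  choose z' hz' using fun x => mem_range_kernelι ((underline A).map (mapSum d d' f)) B _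
    (incl_mem_ker d d' f B x _ (hy x))
  have hsum : z = ∑ x ∈ s, z' x := injective_appL (kernel.ι ((underline A).map (mapSum d d' f))) B (by
    rw [map_sum]
    exact (hs s subset_rfl).symm.trans (Finset.sum_congr rfl fun x _ => (hz' x).symm))
  rw [comp_appL, hsum, map_sum, map_sum, map_sum]
  refine Finset.sum_congr rfl fun x _ => ?_
  rw [hg x B (zx x) (z' x) (by rw [hz', hzx]), hzx, hz']
  exact descSum_incl_baseChange d L g B x _

end DirectSum

/-- A cover by a sum of linearly adequate functors, with extensions of maps into underlines. -/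
structure Cover (F : MVF A) where
  P : ModuleCat.{u + 1} A
  Q : ModuleCat.{u + 1} A
  a : P ⟶ Q
  π : kernel ((underline A).map a) ⟶ F
  surj : ∀ B : Alg A, Function.Surjective (appL π B)
  ext : ∀ {L : ModuleCat.{u + 1} A} (φ : kernel ((underline A).map a) ⟶ (underline A).obj L),
    ∃ g : P ⟶ L, kernel.ι ((underline A).map a) ≫ (underline A).map g = φ

theorem exists_cover {F : MVF A} (hF : adequate A F) : Nonempty (Cover F) := by
  classical
  obtain ⟨K, T, i, τ, hinj, hrange⟩ := exists_range_of_adequate hF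
  let d : CoverIdx τ → ℕ := fun x => x.1
  let d' : CoverIdx τ → ℕ := fun x => x.2.1
  let f : ∀ x : CoverIdx τ, std A (d x) ⟶ std A (d' x) := fun x => x.2.2.1
  let g : ∀ x : CoverIdx τ, std A (d x) ⟶ K := fun x => x.2.2.2.1
  obtain ⟨e, he⟩ := exists_iso_kernel i ((underline A).map τ) hinj hrange
  have w : (kernel.ι ((underline A).map (mapSum d d' f)) ≫ (underline A).map (descSum d K g)) ≫
      (underline A).map τ = 0 :=
    hom_ext' fun B z => descSum_ker d d' f K T g τ (fun x => x.2.2.2.2) B _
      (kernelι_appL ((underline A).map (mapSum d d' f)) B z)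
  let π : kernel ((underline A).map (mapSum d d' f)) ⟶ F := kernel.lift _ _ w ≫ e.inv
  have hπ : π ≫ i = kernel.ι ((underline A).map (mapSum d d' f)) ≫ (underline A).map (descSum d K g) := by
    rw [← he]
    simp [π]
  refine ⟨⟨_, _, mapSum d d' f, π, fun B v => ?_, fun {L} φ => exists_extension_sum d d' f L φ⟩⟩
  obtain ⟨n, m, a₀, μ₀, hμ₀, z, hz, hzx⟩ := exists_lin_lift τ B (appL i B v) ((hrange B _).2 ⟨v, rfl⟩)
  let x : CoverIdx τ := ⟨n, m, a₀, μ₀, hμ₀⟩
  obtain ⟨w', hw'⟩ := mem_range_kernelι ((underline A).map (mapSum d d' f)) B _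
    (incl_mem_ker d d' f B x z hz)
  refine ⟨w', hinj B ?_⟩
  rw [← comp_appL, hπ, comp_appL]
  refine (congrArg ((descSum d K g).hom.baseChange (B : Type u)) hw').trans ?_
  rw [descSum_incl_baseChange]
  exact hzx

end GrothLib.Adeq20
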