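import Groth.Agent.Lib.Adeq20.Lin

/-!
# Values at square-zero extensions
-/

set_option autoImplicit false
set_option linter.style.haveILetI false

universe u

open CategoryTheory CategoryTheory.Limits Opposite TensorProduct

noncomputable section

namespace GrothLib.Adeq20

open Adeq

variable {A : Type u} [CommRing A]

/-- The transition map, additively, between the values. -/
def mapA (F : MVF A) {B B' : Alg A} (f : B ⟶ B') : F.obj (pt B) →+ F.obj (pt B') :=
  AddMonoidHom.mk' (fun x => F.map (ptHom f) x) (fun x y => map_add (F.map (ptHom f)).hom x y)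

theorem mapA_smul (F : MVF A) {B B' : Alg A} (f : B ⟶ B') (b : B) (x : F.obj (pt B)) :
    mapA F f (b • x) = f.hom b • mapA F f x :=
  PresheafOfModules.map_smul F (ptHom f) b x

theorem mapA_appL {F G : MVF A} (φ : F ⟶ G) {B B' : Alg A} (f : B ⟶ B') (x : F.obj (pt B)) :
    mapA G f (appL φ B x) = appL φ B' (mapA F f x) :=
  map_appL φ f x

theorem map_comp' (F : MVF A) {B B' B'' : Alg A} (f : B ⟶ B') (g : B' ⟶ B'') (x : F.obj (pt B)) :
    mapA F g (mapA F f x) = mapA F (f ≫ g) x :=
  (ConcreteCategory.congr_hom (F.presheaf.map_comp (ptHom f) (ptHom g)) x).symm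

theorem mapA_id (F : MVF A) {B : Alg A} (x : F.obj (pt B)) : mapA F (𝟙 B) x = x :=
  ConcreteCategory.congr_hom (F.presheaf.map_id _) x

theorem map_congr (F : MVF A) {B B' : Alg A} {f g : B ⟶ B'} (h : f = g) (x : F.obj (pt B)) :
    mapA F f x = mapA F g x := by
  rw [h]

section Pair

/-- The square-zero extension of `B` by two copies of itself. -/
abbrev pairAlg (B : Alg A) : Alg A := algOf A (TrivSqZeroExt (B : Type u) (Prod (B : Type u) (B : Type u)))

variable {B B' : Alg A}

/-- The map of dual algebras of a map of algebras. -/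
def dualMap (g : B ⟶ B') : dualAlg B ⟶ dualAlg B' :=
  CommAlgCat.ofHom (TrivSqZeroExt.lift ((TrivSqZeroExt.inlAlgHom A (B' : Type u) (B' : Type u)).comp g.hom)
    ((TrivSqZeroExt.inrHom (B' : Type u) (B' : Type u)).restrictScalars A ∘ₗ g.hom.toLinearMap)
    (fun _ _ => TrivSqZeroExt.inr_mul_inr _ _ _)
    (fun r q => by refine TrivSqZeroExt.ext ?_ ?_ <;> simp)
    (fun r q => by refine TrivSqZeroExt.ext ?_ ?_ <;> simp [mul_comm]))

theorem dualMap_inr (g : B ⟶ B') (y : B) : (dualMap g).hom (TrivSqZeroExt.inr y) = TrivSqZeroExt.inr (g.hom y) := by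
  simp only [dualMap, CommAlgCat.hom_ofHom]
  exact TrivSqZeroExt.lift_apply_inr _ _ _ _ _ _

theorem dualMap_inl (g : B ⟶ B') (y : B) : (dualMap g).hom (TrivSqZeroExt.inl y) = TrivSqZeroExt.inl (g.hom y) := by
  simp only [dualMap, CommAlgCat.hom_ofHom]
  exact TrivSqZeroExt.lift_apply_inl _ _ _ _ _ _

/-- Rescaling of the infinitesimal. -/
def scaleHom (b : B) : dualAlg B ⟶ dualAlg B :=
  CommAlgCat.ofHom (TrivSqZeroExt.lift (TrivSqZeroExt.inlAlgHom A (B : Type u) (B : Type u))
    ((TrivSqZeroExt.inrHom (B : Type u) (B : Type u)).restrictScalars A ∘ₗ LinearMap.mulLeft A b)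
    (fun _ _ => TrivSqZeroExt.inr_mul_inr _ _ _)
    (fun r q => by refine TrivSqZeroExt.ext ?_ ?_ <;> simp [mul_left_comm])
    (fun r q => by refine TrivSqZeroExt.ext ?_ ?_ <;> simp [mul_comm, mul_left_comm]))

theorem scaleHom_inr (b y : B) : (scaleHom b).hom (TrivSqZeroExt.inr y) = TrivSqZeroExt.inr (b * y) := by
  simp only [scaleHom, CommAlgCat.hom_ofHom]
  exact TrivSqZeroExt.lift_apply_inr _ _ _ _ _ _

theorem scaleHom_inl (b y : B) : (scaleHom b).hom (TrivSqZeroExt.inl y) = TrivSqZeroExt.inl y := by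
  simp only [scaleHom, CommAlgCat.hom_ofHom]
  exact TrivSqZeroExt.lift_apply_inl _ _ _ _ _ _

/-- The map collapsing two infinitesimals by a linear form. -/
def collapse (B : Alg A) (l : (Prod (B : Type u) (B : Type u)) →ₗ[B] (B : Type u)) : pairAlg B ⟶ dualAlg B :=
  CommAlgCat.ofHom ((TrivSqZeroExt.map l).restrictScalars A)

theorem collapse_inr (B : Alg A) (l : (Prod (B : Type u) (B : Type u)) →ₗ[B] (B : Type u)) (y : Prod (B : Type u) (B : Type u)) :
    (collapse B l).hom (TrivSqZeroExt.inr y) = TrivSqZeroExt.inr (l y) :=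
  TrivSqZeroExt.map_inr l y

theorem collapse_inl (B : Alg A) (l : (Prod (B : Type u) (B : Type u)) →ₗ[B] (B : Type u)) (y : B) :
    (collapse B l).hom (TrivSqZeroExt.inl y) = TrivSqZeroExt.inl y :=
  TrivSqZeroExt.map_inl l y

/-- The inclusion of constants. -/
def inclPair (B : Alg A) : B ⟶ pairAlg B :=
  CommAlgCat.ofHom (TrivSqZeroExt.inlAlgHom A (B : Type u) (Prod (B : Type u) (B : Type u)))

/-- The projection. -/
def augPair (B : Alg A) : pairAlg B ⟶ B := CommAlgCat.ofHom (TrivSqZeroExt.fstHom A _ _)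

end Pair

section Theta

/-- The embedding of a value as infinitesimal part. -/
def theta (F : MVF A) (B : Alg A) : F.obj (pt B) →+ F.obj (pt (dualAlg B)) :=
  AddMonoidHom.mk' (fun x => (TrivSqZeroExt.inr (1 : (B : Type u)) : dualAlg B) • (show F.obj (pt (dualAlg B)) from mapA F (inclHom B) x))
    (fun x y => by
      dsimp only
      rw [map_add]
      exact smul_add _ _ _)

theorem aug_theta (F : MVF A) (B : Alg A) (x : F.obj (pt B)) : mapA F (augHom B) (theta F B x) = 0 := by
  refine (mapA_smul F (augHom B) _ _).trans ?_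
  have h : (augHom B).hom (TrivSqZeroExt.inr (1 : (B : Type u)) : TrivSqZeroExt (B : Type u) (B : Type u)) = 0 := rfl
  change (augHom B).hom (TrivSqZeroExt.inr (1 : (B : Type u)) : TrivSqZeroExt (B : Type u) (B : Type u)) •
    (show F.obj (pt B) from _) = 0
  rw [h]
  exact zero_smul (B : Type u) _

theorem appL_theta {F G : MVF A} (φ : F ⟶ G) (B : Alg A) (x : F.obj (pt B)) :
    appL φ (dualAlg B) (theta F B x) = theta G B (appL φ B x) :=
  (map_smul (appL φ (dualAlg B)) _ _).trans
    (congrArg ((TrivSqZeroExt.inr (1 : (B : Type u)) : dualAlg B) • ·) (mapA_appL φ (inclHom B) x).symm)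

theorem map_theta (F : MVF A) {B B' : Alg A} (g : B ⟶ B') (x : F.obj (pt B)) :
    mapA F (dualMap g) (theta F B x) = theta F B' (mapA F g x) := by
  refine (mapA_smul F (dualMap g) _ _).trans ?_
  change (dualMap g).hom (TrivSqZeroExt.inr (1 : (B : Type u)) : dualAlg B) • (show F.obj (pt (dualAlg B')) from _) =
    (TrivSqZeroExt.inr (1 : (B' : Type u)) : dualAlg B') • (show F.obj (pt (dualAlg B')) from _)
  rw [dualMap_inr, map_one, map_comp', map_comp']
  congr 1
  exact map_congr F (CommAlgCat.hom_ext (AlgHom.ext fun y => dualMap_inl g y)) x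

theorem scale_theta (F : MVF A) {B : Alg A} (b : B) (x : F.obj (pt B)) :
    mapA F (scaleHom b) (theta F B x) = theta F B (b • x) := by
  refine (mapA_smul F (scaleHom b) _ _).trans ?_
  change (scaleHom b).hom (TrivSqZeroExt.inr (1 : (B : Type u)) : dualAlg B) • (show F.obj (pt (dualAlg B)) from _) =
    (TrivSqZeroExt.inr (1 : (B : Type u)) : dualAlg B) • (show F.obj (pt (dualAlg B)) from _)
  rw [scaleHom_inr, map_comp', map_congr F (g := inclHom B) (CommAlgCat.hom_ext (AlgHom.ext fun y => scaleHom_inl b y)) x,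
    mapA_smul]
  change _ = _ • ((inclHom B).hom b • (show F.obj (pt (dualAlg B)) from _))
  rw [smul_smul]
  congr 1
  refine TrivSqZeroExt.ext ?_ ?_ <;> simp [inclHom]

/-- Collapsing an infinitesimal of a pair. -/
theorem collapse_pair (F : MVF A) (B : Alg A) (l : (Prod (B : Type u) (B : Type u)) →ₗ[B] (B : Type u))
    (v : Prod (B : Type u) (B : Type u)) (x : F.obj (pt B)) :
    mapA F (collapse B l)
        ((TrivSqZeroExt.inr v : pairAlg B) • (show F.obj (pt (pairAlg B)) from mapA F (inclPair B) x)) =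
      theta F B (l v • x) := by
  refine (mapA_smul F (collapse B l) _ _).trans ?_
  change (collapse B l).hom (TrivSqZeroExt.inr v : pairAlg B) • (show F.obj (pt (dualAlg B)) from _) =
    (TrivSqZeroExt.inr (1 : (B : Type u)) : dualAlg B) • (show F.obj (pt (dualAlg B)) from _)
  rw [collapse_inr, map_comp', map_congr F (g := inclHom B) (CommAlgCat.hom_ext (AlgHom.ext fun y => collapse_inl B l y)) x,
    mapA_smul]
  change _ = _ • ((inclHom B).hom (l v) • (show F.obj (pt (dualAlg B)) from _))
  rw [smul_smul]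
  congr 1
  refine TrivSqZeroExt.ext ?_ ?_ <;> simp [inclHom]

variable {F : MVF A} (hF : adequate A F)

theorem epsLin_inl_smul (B : Alg A) (K : ModuleCat.{u + 1} A) (t : (B : Type u) ⊗[A] K) :
    (epsLin B).rTensor K ((TrivSqZeroExt.inr (1 : (B : Type u)) : dualAlg B) •
      ((inclHom B).hom.toLinearMap.rTensor K t : (dualAlg B : Type u) ⊗[A] K)) = t := by
  induction t using TensorProduct.induction_on with
  | zero => simp
  | tmul b z => simp [inclHom, TensorProduct.smul_tmul', epsLin]
  | add x y hx hy => rw [map_add, smul_add, map_add, hx, hy]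

theorem dual_decomp (B : Alg A) (K : ModuleCat.{u + 1} A) (z : (dualAlg B : Type u) ⊗[A] K) :
    z = (inclHom B).hom.toLinearMap.rTensor K ((augHom B).hom.toLinearMap.rTensor K z) +
      (TrivSqZeroExt.inr (1 : (B : Type u)) : dualAlg B) •
        ((inclHom B).hom.toLinearMap.rTensor K ((epsLin B).rTensor K z) : (dualAlg B : Type u) ⊗[A] K) := by
  induction z using TensorProduct.induction_on with
  | zero => simp
  | tmul d k =>
    simp only [LinearMap.rTensor_tmul, TensorProduct.smul_tmul', ← TensorProduct.add_tmul]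
    congr 1
    refine TrivSqZeroExt.ext ?_ ?_ <;> simp [inclHom, augHom, epsLin]
  | add x y hx hy =>
    simp only [map_add, smul_add]
    conv_lhs => rw [hx, hy]
    abel

theorem pair_decomp (B : Alg A) (K : ModuleCat.{u + 1} A) (z : (pairAlg B : Type u) ⊗[A] K)
    (h₀ : (augPair B).hom.toLinearMap.rTensor K z = 0)
    (h₁ : (collapse B (LinearMap.fst _ _ _)).hom.toLinearMap.rTensor K z = 0)
    (h₂ : (collapse B (LinearMap.snd _ _ _)).hom.toLinearMap.rTensor K z = 0) : z = 0 := by
  let j₁ : (B : Type u) →ₗ[A] (pairAlg B : Type u) :=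
    ((TrivSqZeroExt.inrHom (B : Type u) (Prod (B : Type u) (B : Type u))).restrictScalars A) ∘ₗ LinearMap.inl A (B : Type u) (B : Type u)
  let j₂ : (B : Type u) →ₗ[A] (pairAlg B : Type u) :=
    ((TrivSqZeroExt.inrHom (B : Type u) (Prod (B : Type u) (B : Type u))).restrictScalars A) ∘ₗ LinearMap.inr A (B : Type u) (B : Type u)
  have h : (LinearMap.id : (pairAlg B : Type u) →ₗ[A] (pairAlg B : Type u)) =
      (inclPair B).hom.toLinearMap ∘ₗ (augPair B).hom.toLinearMap +
        (j₁ ∘ₗ epsLin B) ∘ₗ (collapse B (LinearMap.fst _ _ _)).hom.toLinearMap +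
        (j₂ ∘ₗ epsLin B) ∘ₗ (collapse B (LinearMap.snd _ _ _)).hom.toLinearMap := by
    refine LinearMap.ext fun d => ?_
    refine TrivSqZeroExt.ext ?_ ?_ <;> simp [inclPair, augPair, j₁, j₂, collapse, epsLin]
  rw [← LinearMap.rTensor_id_apply (R := A) K (pairAlg B : Type u) z, h]
  simp only [LinearMap.rTensor_add, LinearMap.add_apply, LinearMap.rTensor_comp_apply, h₀, h₁, h₂, map_zero, add_zero]

include hF in
theorem theta_injective (B : Alg A) : Function.Injective (theta F B) := by
  obtain ⟨K, T, i, τ, hinj, -⟩ := exists_range_of_adequate hF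
  intro x x' h
  refine hinj B ?_
  have h' := congrArg ((epsLin B).rTensor K) ((appL_theta i B x).symm.trans
    ((congrArg (appL i (dualAlg B)) h).trans (appL_theta i B x')))
  exact (epsLin_inl_smul B K _).symm.trans (h'.trans (epsLin_inl_smul B K _))

include hF in
theorem theta_surjective (B : Alg A) (y : F.obj (pt (dualAlg B))) (hy : mapA F (augHom B) y = 0) :
    ∃ x, theta F B x = y := by
  obtain ⟨K, T, i, τ, hinj, hrange⟩ := exists_range_of_adequate hF
  let z : (dualAlg B : Type u) ⊗[A] K := appL i (dualAlg B) y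
  have hz : (augHom B).hom.toLinearMap.rTensor K z = 0 :=
    (mapA_appL i (augHom B) y).trans ((congrArg (appL i B) hy).trans (map_zero _))
  have hτ : τ.hom.baseChange B ((epsLin B).rTensor K z) = (epsLin B).rTensor T (τ.hom.baseChange (dualAlg B : Type u) z) := by
    clear hz
    induction z using TensorProduct.induction_on with
    | zero => simp
    | tmul d k => rfl
    | add x y hx hy => simp only [map_add, hx, hy]
  obtain ⟨x, hx⟩ := (hrange B _).1 (hτ.trans (by rw [(hrange _ _).2 ⟨y, rfl⟩, map_zero]))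
  refine ⟨x, hinj _ ?_⟩
  refine (appL_theta i B x).trans ?_
  change _ = z
  rw [dual_decomp B K z, hz, map_zero, zero_add, ← hx]
  rfl

include hF in
theorem pair_joint (B : Alg A) (y : F.obj (pt (pairAlg B))) (h₀ : mapA F (augPair B) y = 0)
    (h₁ : mapA F (collapse B (LinearMap.fst _ _ _)) y = 0)
    (h₂ : mapA F (collapse B (LinearMap.snd _ _ _)) y = 0) : y = 0 := by
  obtain ⟨K, T, i, τ, hinj, -⟩ := exists_range_of_adequate hF
  let z : (pairAlg B : Type u) ⊗[A] K := appL i (pairAlg B) y
  have hz : z = 0 := by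
    refine pair_decomp B K z ?_ ?_ ?_
    · exact (mapA_appL i (augPair B) y).trans ((congrArg (appL i B) h₀).trans (map_zero _))
    · exact (mapA_appL i (collapse B (LinearMap.fst _ _ _)) y).trans
        ((congrArg (appL i (dualAlg B)) h₁).trans (map_zero _))
    · exact (mapA_appL i (collapse B (LinearMap.snd _ _ _)) y).trans
        ((congrArg (appL i (dualAlg B)) h₂).trans (map_zero _))
  apply hinj (pairAlg B)
  change z = _
  rw [hz]
  exact (map_zero (appL i (pairAlg B))).symm

end Theta

end GrothLib.Adeq20
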