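import Groth.Agent.Lib.Adeq20.Flat
import Groth.Agent.Lib.Adeq20.Dual
import Mathlib.LinearAlgebra.TensorProduct.Pi
import Mathlib.RingTheory.Flat.FaithfullyFlat.Algebra
import Mathlib.RingTheory.Spectrum.Prime.RingHom

/-!
# Descent for adequate functors
-/

set_option autoImplicit false
set_option linter.style.haveILetI false

universe u

open CategoryTheory CategoryTheory.Limits Opposite TensorProduct

noncomputable section

namespace GrothLib.Adeq20

open Adeq

section Module

variable {B : Type u} [CommRing B] {ι : Type u} [Fintype ι] [DecidableEq ι] (D : ι → Type u)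
  [∀ j, CommRing (D j)] [∀ j, Algebra B (D j)]

theorem flat_pi [∀ j, Module.Flat B (D j)] : Module.Flat B (∀ j, D j) :=
  Module.Flat.of_linearEquiv (DirectSum.linearEquivFunOnFintype B ι D).symm

theorem faithfullyFlat_pi [∀ j, Module.Flat B (D j)]
    (h : ∀ p : PrimeSpectrum B, ∃ j, ∃ q : PrimeSpectrum (D j), PrimeSpectrum.comap (algebraMap B (D j)) q = p) :
    Module.FaithfullyFlat B (∀ j, D j) := by
  haveI := flat_pi (B := B) D
  refine Module.FaithfullyFlat.of_comap_surjective fun p => ?_
  obtain ⟨j, q, rfl⟩ := h p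
  exact ⟨PrimeSpectrum.comap (Pi.evalRingHom D j) q, rfl⟩

variable {N : Type (u + 1)} [AddCommGroup N] [Module B N]

theorem piLeft_one_tmul (x : N) (j : ι) :
    TensorProduct.piLeft B N D ((1 : ∀ j, D j) ⊗ₜ[B] x) j = (1 : D j) ⊗ₜ[B] x := by
  simp [TensorProduct.piLeft]

theorem family_separated [Module.FaithfullyFlat B (∀ j, D j)] (x : N) (h : ∀ j, (1 : D j) ⊗ₜ[B] x = 0) : x = 0 := by
  refine Module.FaithfullyFlat.tensorProduct_mk_injective (A := B) (B := ∀ j, D j) N ?_
  rw [map_zero]
  exact (TensorProduct.piLeft B N D).injective (funext fun j => by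
    rw [map_zero, TensorProduct.mk_apply, piLeft_one_tmul, h]
    rfl)

theorem family_glue [Module.FaithfullyFlat B (∀ j, D j)] (y : ∀ j, D j ⊗[B] N)
    (h : ∀ i j, (TensorProduct.mk B (D j) N 1).lTensor (D i) (y i) = (1 : D i) ⊗ₜ[B] y j) :
    ∃ x : N, ∀ j, (1 : D j) ⊗ₜ[B] x = y j := by
  let P : Type u := ∀ j, D j
  let e := TensorProduct.piLeft B N D
  let Y : P ⊗[B] N := e.symm y
  let ψ : N →ₗ[B] P ⊗[B] N := TensorProduct.mk B P N 1
  have key : ψ.lTensor P Y = (1 : P) ⊗ₜ[B] Y := by
    refine (TensorProduct.piLeft B (P ⊗[B] N) D).injective (funext fun i => ?_)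
    refine (e.lTensor (D i)).injective ?_
    refine (TensorProduct.piRight B B (D i) fun k => D k ⊗[B] N).injective (funext fun k => ?_)
    have hL : ∀ Z : P ⊗[B] N, TensorProduct.piRight B B (D i) (fun k => D k ⊗[B] N)
        (e.lTensor (D i) (TensorProduct.piLeft B (P ⊗[B] N) D (ψ.lTensor P Z) i)) k =
        (TensorProduct.mk B (D k) N 1).lTensor (D i) (e Z i) := fun Z => by
      induction Z using TensorProduct.induction_on with
      | zero => simp
      | tmul p n =>
        simp [e, ψ, TensorProduct.piLeft, LinearEquiv.lTensor]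
        rfl
      | add a b ha hb => simp only [map_add, Pi.add_apply, ha, hb]
    rw [hL, piLeft_one_tmul]
    simp only [LinearEquiv.lTensor_tmul, TensorProduct.piRight_apply, TensorProduct.piRightHom_tmul, e, Y,
      LinearEquiv.apply_symm_apply]
    exact h i k
  have hY : Y ∈ LinearMap.range ψ := by
    rw [← Submodule.Quotient.mk_eq_zero]
    refine Module.FaithfullyFlat.tensorProduct_mk_injective (A := B) (B := P) _ ?_
    rw [map_zero, TensorProduct.mk_apply,
      show (1 : P) ⊗ₜ[B] (Submodule.Quotient.mk Y : (P ⊗[B] N) ⧸ LinearMap.range ψ) =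
        (LinearMap.range ψ).mkQ.lTensor P ((1 : P) ⊗ₜ[B] Y) from rfl, ← key, ← LinearMap.lTensor_comp_apply,
      LinearMap.range_mkQ_comp, LinearMap.lTensor_zero, LinearMap.zero_apply]
  obtain ⟨x, hx⟩ := hY
  refine ⟨x, fun j => ?_⟩
  rw [← piLeft_one_tmul, show (1 : P) ⊗ₜ[B] x = Y from hx]
  exact congrFun (e.apply_symm_apply y) j

end Module

section Functor

variable {A : Type u} [CommRing A] {B : Alg A} {ι : Type u} [Finite ι] {D : ι → Alg A} (f : ∀ j, B ⟶ D j)
  (hflat : ∀ j, (f j).hom.toRingHom.Flat) {F : MVF A} (hF : adequate A F)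
  (hsurj : ∀ p : PrimeSpectrum (B : Type u), ∃ j, ∃ q : PrimeSpectrum (D j : Type u),
    PrimeSpectrum.comap (f j).hom.toRingHom q = p)

/-- The overlap of two members. -/
def overlap (i j : ι) : Alg A :=
  letI := (f i).hom.toRingHom.toAlgebra
  letI := (f j).hom.toRingHom.toAlgebra
  haveI : IsScalarTower A (B : Type u) (D i : Type u) := IsScalarTower.of_algebraMap_eq fun r => ((f i).hom.commutes r).symm
  algOf A ((D i : Type u) ⊗[(B : Type u)] (D j : Type u))

/-- The first projection. -/
def overlapL (i j : ι) : D i ⟶ overlap f i j :=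
  letI := (f i).hom.toRingHom.toAlgebra
  letI := (f j).hom.toRingHom.toAlgebra
  haveI : IsScalarTower A (B : Type u) (D i : Type u) := IsScalarTower.of_algebraMap_eq fun r => ((f i).hom.commutes r).symm
  CommAlgCat.ofHom ((Algebra.TensorProduct.includeLeft :
    (D i : Type u) →ₐ[(B : Type u)] (D i : Type u) ⊗[(B : Type u)] (D j : Type u)).restrictScalars A)

/-- The second projection. -/
def overlapR (i j : ι) : D j ⟶ overlap f i j :=
  letI := (f i).hom.toRingHom.toAlgebra
  letI := (f j).hom.toRingHom.toAlgebra
  haveI : IsScalarTower A (B : Type u) (D i : Type u) := IsScalarTower.of_algebraMap_eq fun r => ((f i).hom.commutes r).symm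
  haveI : IsScalarTower A (B : Type u) (D j : Type u) := IsScalarTower.of_algebraMap_eq fun r => ((f j).hom.commutes r).symm
  CommAlgCat.ofHom ((Algebra.TensorProduct.includeRight :
    (D j : Type u) →ₐ[(B : Type u)] (D i : Type u) ⊗[(B : Type u)] (D j : Type u)).restrictScalars A)

omit [Finite ι] in
theorem overlap_comm (i j : ι) : f i ≫ overlapL f i j = f j ≫ overlapR f i j := by
  letI := (f i).hom.toRingHom.toAlgebra
  letI := (f j).hom.toRingHom.toAlgebra
  refine ConcreteCategory.hom_ext _ _ fun b => ?_
  exact ((Algebra.TensorProduct.includeLeft : (D i : Type u) →ₐ[(B : Type u)] (D i : Type u) ⊗[(B : Type u)] (D j : Type u)).commutes b).trans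
    ((Algebra.TensorProduct.includeRight : (D j : Type u) →ₐ[(B : Type u)] (D i : Type u) ⊗[(B : Type u)] (D j : Type u)).commutes b).symm

include hflat hF hsurj in
theorem adequate_separated (x : F.obj (pt B)) (hx : ∀ j, mapA F (f j) x = 0) : x = 0 := by
  classical
  haveI := Fintype.ofFinite ι
  letI := fun j => (f j).hom.toRingHom.toAlgebra
  haveI : ∀ j, Module.Flat (B : Type u) (D j : Type u) := hflat
  haveI := faithfullyFlat_pi (B := (B : Type u)) (fun j => (D j : Type u)) hsurj
  refine family_separated (B := (B : Type u)) (fun j => (D j : Type u)) x fun j => ?_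
  haveI : IsIso (F.bc (f j)) := adequate_flat hF _ (hflat j)
  refine ((ConcreteCategory.isIso_iff_bijective (F.bc (f j))).1 inferInstance).1 ?_
  exact ((bc_tmul F (f j) 1 x).trans ((one_smul _ _).trans (hx j))).trans (map_zero (F.bc (f j)).hom).symm

include hflat hF hsurj in
theorem adequate_glue (y : ∀ j, F.obj (pt (D j)))
    (h : ∀ i j, mapA F (overlapL f i j) (y i) = mapA F (overlapR f i j) (y j)) :
    ∃ x : F.obj (pt B), ∀ j, mapA F (f j) x = y j := by
  classical
  haveI := Fintype.ofFinite ι
  letI := fun j => (f j).hom.toRingHom.toAlgebra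
  haveI : ∀ j, Module.Flat (B : Type u) (D j : Type u) := hflat
  haveI := faithfullyFlat_pi (B := (B : Type u)) (fun j => (D j : Type u)) hsurj
  have hiso : ∀ j, IsIso (F.bc (f j)) := fun j => adequate_flat hF _ (hflat j)
  choose z hz using fun j => ((ConcreteCategory.isIso_iff_bijective (F.bc (f j))).1 (hiso j)).2 (y j)
  obtain ⟨x, hx⟩ := family_glue (B := (B : Type u)) (fun j => (D j : Type u)) z fun i j => by
    let φ : B ⟶ overlap f i j := f i ≫ overlapL f i j
    letI : Algebra (B : Type u) (overlap f i j : Type u) := φ.hom.toRingHom.toAlgebra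
    let σ : (D i : Type u) ⊗[(B : Type u)] (D j : Type u) ≃ₗ[(B : Type u)] (overlap f i j : Type u) :=
      { toFun := fun w => w
        map_add' := fun _ _ => rfl
        map_smul' := fun b w => (Algebra.smul_def b w).trans rfl
        invFun := fun w => w
        left_inv := fun _ => rfl
        right_inv := fun _ => rfl }
    haveI : Module.Flat (B : Type u) ((D i : Type u) ⊗[(B : Type u)] (D j : Type u)) := Module.Flat.trans _ (D i : Type u) _
    haveI hφ : Module.Flat (B : Type u) (overlap f i j : Type u) := Module.Flat.of_linearEquiv σ.symm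
    haveI := adequate_flat hF φ hφ
    let E : (D i : Type u) ⊗[(B : Type u)] ((D j : Type u) ⊗[(B : Type u)] F.obj (pt B)) →+ F.obj (pt (overlap f i j)) :=
      AddMonoidHom.mk' (fun w => (F.bc φ).hom
        ((TensorProduct.congr σ (LinearEquiv.refl _ _))
          ((TensorProduct.assoc (B : Type u) (D i : Type u) (D j : Type u) (F.obj (pt B))).symm w)))
        (fun w w' => by
          dsimp only
          rw [map_add, map_add]
          exact map_add (F.bc φ).hom _ _)
    have hE : Function.Injective E :=
      (((ConcreteCategory.isIso_iff_bijective (F.bc φ)).1 inferInstance).1.comp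
        (TensorProduct.congr σ (LinearEquiv.refl _ _)).injective).comp
        (TensorProduct.assoc (B : Type u) (D i : Type u) (D j : Type u) (F.obj (pt B))).symm.injective
    have hEt : ∀ (d : D i) (d' : D j) (n : F.obj (pt B)),
        E ((show (D i : Type u) from d) ⊗ₜ[(B : Type u)] ((show (D j : Type u) from d') ⊗ₜ[(B : Type u)] n)) =
          (σ ((show (D i : Type u) from d) ⊗ₜ[(B : Type u)] (show (D j : Type u) from d'))) • mapA F φ n :=
      fun d d' n => bc_tmul F φ _ n
    have hLeft : ∀ w : (D i : Type u) ⊗[(B : Type u)] F.obj (pt B),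
        E ((TensorProduct.mk (B : Type u) (D j : Type u) (F.obj (pt B)) 1).lTensor (D i : Type u) w) =
          mapA F (overlapL f i j) ((F.bc (f i)).hom w) := fun w => by
      induction w using TensorProduct.induction_on with
      | zero => exact (map_zero E).trans ((congrArg _ (map_zero (F.bc (f i)).hom)).trans (map_zero _)).symm
      | tmul d n =>
        refine (hEt d 1 n).trans ?_
        refine Eq.trans ?_ (congrArg (mapA F (overlapL f i j)) (bc_tmul F (f i) d n)).symm
        refine Eq.trans ?_ (mapA_smul F _ _ _).symm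
        refine Eq.trans ?_ (congrArg ((overlapL f i j).hom d • ·) (map_comp' F (f i) (overlapL f i j) n)).symm
        rfl
      | add a b ha hb =>
        rw [map_add, map_add, ha, hb]
        exact ((congrArg _ (map_add (F.bc (f i)).hom a b)).trans (map_add _ _ _)).symm
    have hRight : ∀ w : (D j : Type u) ⊗[(B : Type u)] F.obj (pt B),
        E ((1 : (D i : Type u)) ⊗ₜ w) = mapA F (overlapR f i j) ((F.bc (f j)).hom w) := fun w => by
      induction w using TensorProduct.induction_on with
      | zero =>
        rw [TensorProduct.tmul_zero]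
        exact (map_zero E).trans ((congrArg _ (map_zero (F.bc (f j)).hom)).trans (map_zero _)).symm
      | tmul d n =>
        refine (hEt 1 d n).trans ?_
        refine Eq.trans ?_ (congrArg (mapA F (overlapR f i j)) (bc_tmul F (f j) d n)).symm
        refine Eq.trans ?_ (mapA_smul F _ _ _).symm
        refine Eq.trans ?_ (congrArg ((overlapR f i j).hom d • ·)
          ((map_comp' F (f j) (overlapR f i j) n).trans (map_congr F (overlap_comm f i j) n).symm)).symm
        rfl
      | add a b ha hb =>
        rw [TensorProduct.tmul_add, map_add, ha, hb]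
        exact ((congrArg _ (map_add (F.bc (f j)).hom a b)).trans (map_add _ _ _)).symm
    exact hE ((hLeft (z i)).trans ((congrArg (mapA F (overlapL f i j)) (hz i)).trans ((h i j).trans
      ((congrArg (mapA F (overlapR f i j)) (hz j)).symm.trans (hRight (z j)).symm))))
  refine ⟨x, fun j => ?_⟩
  refine Eq.trans ?_ ((congrArg (F.bc (f j)).hom (hx j)).trans (hz j))
  exact ((bc_tmul F (f j) 1 x).trans (one_smul _ _)).symm

end Functor

end GrothLib.Adeq20
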