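import Groth.Agent.Lib.Adeq20.Push
import Groth.Agent.Lib.Adeq20.Closure

/-!
# Descent of adequacy
-/

set_option autoImplicit false
set_option linter.style.haveILetI false

universe u

open CategoryTheory CategoryTheory.Limits Opposite TensorProduct

noncomputable section

namespace GrothLib.Adeq20

open Adeq

variable (A A' : Type u) [CommRing A] [CommRing A'] [Algebra A A']

/-- Extension then restriction. -/
abbrev pushRestr : MVF A ⥤ MVF A := Adeq.restr A A' ⋙ Adeq.push A A'

/-- The unit of the change of base ring. -/
def etaPR (G : MVF A) : G ⟶ (pushRestr A A').obj G :=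
  mkHom (fun B =>
    { toFun := fun x => mapA G (Adeq.Alg.unit A A' B) x
      map_add' := fun x y => map_add _ x y
      map_smul' := fun b x => mapA_smul G (Adeq.Alg.unit A A' B) b x })
    fun B B' f x => by
      change mapA G (Adeq.Alg.unit A A' B') (mapA G f x) =
        mapA G ((Adeq.Alg.restr A A').map ((Adeq.Alg.baseChange A A').map f)) (mapA G (Adeq.Alg.unit A A' B) x)
      rw [map_comp', map_comp']
      refine map_congr G (ConcreteCategory.hom_ext _ _ fun b => ?_) x
      rfl

/-- The difference of the two cofaces. -/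
def cofaceDiff (F : MVF A) : (pushRestr A A').obj F ⟶ (pushRestr A A').obj ((pushRestr A A').obj F) :=
  (pushRestr A A').map (etaPR A A' F) - etaPR A A' ((pushRestr A A').obj F)

theorem appL_cofaceDiff (F : MVF A) (B : Alg A) (y : ((pushRestr A A').obj F).obj (pt B)) :
    appL (cofaceDiff A A' F) B y =
      appL ((pushRestr A A').map (etaPR A A' F)) B y - appL (etaPR A A' ((pushRestr A A').obj F)) B y :=
  rfl

/-- A functor satisfying descent with adequate restriction is adequate. -/
theorem adequate_descent (F : MVF A) (h₁ : adequate A' ((Adeq.restr A A').obj F))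
    (h₂ : ∀ B : Alg A, Function.Injective (F.map (ptHom (Adeq.Alg.unit A A' B))) ∧
      ∀ y : F.obj (pt ((Adeq.Alg.restr A A').obj ((Adeq.Alg.baseChange A A').obj B))),
        F.map (ptHom (Adeq.Alg.unit A A' ((Adeq.Alg.restr A A').obj ((Adeq.Alg.baseChange A A').obj B)))) y =
          F.map (ptHom ((Adeq.Alg.restr A A').map ((Adeq.Alg.baseChange A A').map (Adeq.Alg.unit A A' B)))) y →
        y ∈ Set.range (F.map (ptHom (Adeq.Alg.unit A A' B)))) :
    adequate A F := by
  have hP : adequate A ((pushRestr A A').obj F) := adequate_push A A' h₁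
  have hPP : adequate A ((pushRestr A A').obj ((pushRestr A A').obj F)) :=
    adequate_push A A' (adequate_restr A A' hP)
  obtain ⟨e, -⟩ := exists_iso_kernel (etaPR A A' F) (cofaceDiff A A' F) (fun B x y h => (h₂ B).1 h) fun B y => by
    rw [appL_cofaceDiff]
    constructor
    · intro h
      exact (h₂ B).2 y (sub_eq_zero.1 h)
    · rintro ⟨x, rfl⟩
      refine sub_eq_zero.2 ?_
      change mapA F (Adeq.Alg.unit A A' ((Adeq.Alg.restr A A').obj ((Adeq.Alg.baseChange A A').obj B)))
          (mapA F (Adeq.Alg.unit A A' B) x) =
        mapA F ((Adeq.Alg.restr A A').map ((Adeq.Alg.baseChange A A').map (Adeq.Alg.unit A A' B)))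
          (mapA F (Adeq.Alg.unit A A' B) x)
      rw [map_comp', map_comp']
      refine map_congr F (ConcreteCategory.hom_ext _ _ fun b => ?_) x
      rfl
  exact (adequate A).prop_of_iso e.symm (adequate_kernel (cofaceDiff A A' F) hP hPP)

end GrothLib.Adeq20
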