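import Groth.Agent.Lib.Adeq20.Lift
import Mathlib.LinearAlgebra.FreeModule.Finite.Basic
import Mathlib.Algebra.Homology.ShortComplex.Exact

/-!
# Extensions of adequate functors
-/

set_option autoImplicit false
set_option linter.style.haveILetI false

universe u

open CategoryTheory CategoryTheory.Limits Opposite TensorProduct

noncomputable section

namespace GrothLib.Adeq20

open Adeq

variable {A : Type u} [CommRing A]

theorem adequate_underline (M : ModuleCat.{u + 1} A) : adequate A ((underline A).obj M) :=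
  adequate_of_range (𝟙 _) (0 : M ⟶ M) (fun _ _ _ h => h) fun B x =>
    ⟨fun _ => ⟨x, rfl⟩, fun _ => by simp⟩

/-- A map from a linearly adequate functor lifts along an extension of adequate functors. -/
theorem exists_lift_lin {S : ShortComplex (MVF A)} (hS : S.ShortExact) (h₁ : adequate A S.X₁) (h₃ : adequate A S.X₃)
    {L : MVF A} (hL : linAdequate A L) (φ : L ⟶ S.X₃) : ∃ ψ : L ⟶ S.X₂, ψ ≫ S.g = φ := by
  classical
  obtain ⟨P, P', a, _, _, _, _, ⟨e⟩⟩ := hL
  let bP := (Module.Free.chooseBasis A P).reindex (Fintype.equivFin _)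
  let bP' := (Module.Free.chooseBasis A P').reindex (Fintype.equivFin _)
  obtain ⟨ψ, hψ⟩ := exists_lift bP bP' a hS h₁ h₃ (e.inv ≫ φ)
  exact ⟨e.hom ≫ ψ, by rw [Category.assoc, hψ, e.hom_inv_id_assoc]⟩

/-- A binary biproduct of adequate functors is adequate. -/
theorem adequate_biprod {F G : MVF A} (hF : adequate A F) (hG : adequate A G) : adequate A (F ⊞ G) := by
  obtain ⟨K, T, i, τ, hinj, hrange⟩ := exists_range_of_adequate hF
  obtain ⟨K', T', i', τ', hinj', hrange'⟩ := exists_range_of_adequate hG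
  let KK : ModuleCat.{u + 1} A := ModuleCat.of A (K × K')
  let p₁ : KK ⟶ K := ModuleCat.ofHom (LinearMap.fst A K K')
  let p₂ : KK ⟶ K' := ModuleCat.ofHom (LinearMap.snd A K K')
  let j₁ : K ⟶ KK := ModuleCat.ofHom (LinearMap.inl A K K')
  let j₂ : K' ⟶ KK := ModuleCat.ofHom (LinearMap.inr A K K')
  let q : F ⊞ G ⟶ (underline A).obj KK :=
    biprod.desc (i ≫ (underline A).map j₁) (i' ≫ (underline A).map j₂)
  have hdec : ∀ (B : Alg A) (v : (F ⊞ G).obj (pt B)), v = appL biprod.inl B (appL biprod.fst B v) +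
      appL biprod.inr B (appL biprod.snd B v) := fun B v =>
    (congrArg (fun k => appL k B v) biprod.total).symm
  have hq : ∀ (B : Alg A) (v : (F ⊞ G).obj (pt B)), appL q B v =
      j₁.hom.lTensor (B : Type u) (appL i B (appL biprod.fst B v)) +
        j₂.hom.lTensor (B : Type u) (appL i' B (appL biprod.snd B v)) := fun B v => by
    conv_lhs => rw [hdec B v, map_add, ← comp_appL biprod.inl q, ← comp_appL biprod.inr q, biprod.inl_desc, biprod.inr_desc]
    rfl
  have h11 : ∀ (B : Alg A) (x : (B : Type u) ⊗[A] K) (y : (B : Type u) ⊗[A] K'),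
      p₁.hom.lTensor (B : Type u) (j₁.hom.lTensor (B : Type u) x + j₂.hom.lTensor (B : Type u) y) = x := fun B x y => by
    rw [map_add, lTensor_lTensor_of_comp (k := LinearMap.id) (LinearMap.ext fun w => rfl),
      lTensor_lTensor_of_comp (k := (0 : (K' : Type (u + 1)) →ₗ[A] K)) (LinearMap.ext fun w => rfl),
      LinearMap.lTensor_id, LinearMap.lTensor_zero, LinearMap.id_apply, LinearMap.zero_apply, add_zero]
  have h22 : ∀ (B : Alg A) (x : (B : Type u) ⊗[A] K) (y : (B : Type u) ⊗[A] K'),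
      p₂.hom.lTensor (B : Type u) (j₁.hom.lTensor (B : Type u) x + j₂.hom.lTensor (B : Type u) y) = y := fun B x y => by
    rw [map_add, lTensor_lTensor_of_comp (k := (0 : (K : Type (u + 1)) →ₗ[A] K')) (LinearMap.ext fun w => rfl),
      lTensor_lTensor_of_comp (k := LinearMap.id) (LinearMap.ext fun w => rfl),
      LinearMap.lTensor_id, LinearMap.lTensor_zero, LinearMap.id_apply, LinearMap.zero_apply, zero_add]
  refine adequate_of_range q (pairMap (p₁ ≫ τ) (p₂ ≫ τ')) (fun B => (injective_iff_map_eq_zero _).2 fun v hv => ?_)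
    fun B z => ?_
  · have e1 := h11 B (appL i B (appL biprod.fst B v)) (appL i' B (appL biprod.snd B v))
    have e2 := h22 B (appL i B (appL biprod.fst B v)) (appL i' B (appL biprod.snd B v))
    rw [hq B v] at hv
    erw [hv, map_zero] at e1 e2
    rw [hdec B v, hinj B (e1.symm.trans (map_zero (appL i B)).symm),
      hinj' B (e2.symm.trans (map_zero (appL i' B)).symm), map_zero, map_zero, add_zero]
  · rw [pairMap_zero_iff, baseChange_comp_apply, baseChange_comp_apply]
    constructor
    · rintro ⟨hz1, hz2⟩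
      obtain ⟨x, hx⟩ := (hrange B _).1 hz1
      obtain ⟨y, hy⟩ := (hrange' B _).1 hz2
      refine ⟨appL biprod.inl B x + appL biprod.inr B y, ?_⟩
      rw [map_add, ← comp_appL, ← comp_appL, biprod.inl_desc, biprod.inr_desc, comp_appL, comp_appL, hx, hy]
      change j₁.hom.lTensor (B : Type u) (p₁.hom.lTensor (B : Type u) z) +
        j₂.hom.lTensor (B : Type u) (p₂.hom.lTensor (B : Type u) z) = z
      rw [← LinearMap.lTensor_comp_apply, ← LinearMap.lTensor_comp_apply, ← LinearMap.add_apply,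
        ← LinearMap.lTensor_add]
      have h : j₁.hom ∘ₗ p₁.hom + j₂.hom ∘ₗ p₂.hom = LinearMap.id := LinearMap.ext fun (w : K × K') => Prod.ext (add_zero w.1) (zero_add w.2)
      rw [h, LinearMap.lTensor_id, LinearMap.id_apply]
    · rintro ⟨v, rfl⟩
      rw [hq B v]
      constructor
      · exact (congrArg _ (h11 B _ _)).trans ((hrange B _).2 ⟨_, rfl⟩)
      · exact (congrArg _ (h22 B _ _)).trans ((hrange' B _).2 ⟨_, rfl⟩)

theorem biprod_lift_desc_zero {W X Y Z : MVF A} (a : W ⟶ X) (b : W ⟶ Y) (c : X ⟶ Z) (d : Y ⟶ Z)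
    (h : a ≫ c + b ≫ d = 0) : biprod.lift a b ≫ biprod.desc c d = 0 :=
  biprod.lift_desc.trans h

/-- The middle term is adequate when the right-hand one is covered by an adequate functor mapping to the middle. -/
theorem adequate_of_lift (S : ShortComplex (MVF A)) (hS : S.ShortExact) (h₁ : adequate A S.X₁) (h₃ : adequate A S.X₃)
    {P : MVF A} (hP : adequate A P) (Ψ : P ⟶ S.X₂)
    (hπ : ∀ (B : Alg A) (v : S.X₃.obj (pt B)), ∃ z, appL (Ψ ≫ S.g) B z = v) : adequate A S.X₂ := by
  haveI := hS.mono_f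
  haveI := hS.epi_g
  let π := Ψ ≫ S.g
  let κ : kernel π ⟶ S.X₁ := hS.exact.lift (kernel.ι π ≫ Ψ) (by rw [Category.assoc, kernel.condition])
  have hκ : κ ≫ S.f = kernel.ι π ≫ Ψ := hS.exact.lift_f _ _
  let μ : kernel π ⟶ S.X₁ ⊞ P := biprod.lift κ (-kernel.ι π)
  let q : S.X₁ ⊞ P ⟶ S.X₂ := biprod.desc S.f Ψ
  have hμq : μ ≫ q = 0 := biprod_lift_desc_zero _ _ _ _ (by rw [hκ, Preadditive.neg_comp, add_neg_cancel])
  let d : cokernel μ ⟶ S.X₂ := cokernel.desc μ q hμq
  have hdec : ∀ (B : Alg A) (w : (S.X₁ ⊞ P).obj (pt B)), w = appL biprod.inl B (appL biprod.fst B w) +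
      appL biprod.inr B (appL biprod.snd B w) := fun B w =>
    (congrArg (fun k => appL k B w) biprod.total).symm
  have hq : ∀ (B : Alg A) (v : (S.X₁ ⊞ P).obj (pt B)),
      appL q B v = appL S.f B (appL biprod.fst B v) + appL Ψ B (appL biprod.snd B v) := fun B v => by
    conv_lhs => rw [hdec B v, map_add, ← comp_appL biprod.inl q, ← comp_appL biprod.inr q, biprod.inl_desc,
      biprod.inr_desc]
  have hd : ∀ (B : Alg A) (v : (S.X₁ ⊞ P).obj (pt B)), appL d B (appL (cokernel.π μ) B v) = appL q B v := fun B v => by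
    rw [← comp_appL, cokernel.π_desc]
  haveI : Mono d := mono_of_injective' d fun B => (injective_iff_map_eq_zero _).2 fun c hc => by
    obtain ⟨v, rfl⟩ := surjective_appL (cokernel.π μ) B c
    rw [hd, hq] at hc
    have h0 : appL π B (appL biprod.snd B v) = 0 := by
      have h' := congrArg (appL S.g B) hc
      rw [map_add, ← comp_appL S.f S.g, S.zero, map_zero] at h'
      refine (comp_appL Ψ S.g B _).trans ?_
      exact (zero_add _).symm.trans h'
    obtain ⟨k, hk⟩ := mem_range_kernelι π B _ h0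
    refine (cokernelπ_eq_zero_iff μ B v).2 ⟨-k, ?_⟩
    have h1 : appL S.f B (appL κ B k) = appL Ψ B (appL biprod.snd B v) := by
      rw [← comp_appL, hκ, comp_appL, hk]
    have h2 : appL biprod.fst B v = -appL κ B k := injective_appL S.f B (by
      rw [map_neg, h1]
      exact eq_neg_of_add_eq_zero_left hc)
    have e1 : appL biprod.fst B (appL μ B (-k)) = appL biprod.fst B v := by
      rw [← comp_appL μ biprod.fst, biprod.lift_fst, map_neg, h2]
    have e2 : appL biprod.snd B (appL μ B (-k)) = appL biprod.snd B v := by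
      rw [← comp_appL μ biprod.snd, biprod.lift_snd, map_neg, ← hk]
      exact neg_neg _
    rw [hdec B v, hdec B (appL μ B (-k)), e1, e2]
  haveI : Epi d := epi_of_surjective' d fun B x => by
    obtain ⟨z, hz⟩ := hπ B (appL S.g B x)
    obtain ⟨f, hf⟩ := exact_appL hS.exact B (x - appL Ψ B z) (by rw [map_sub, ← comp_appL, hz, sub_self])
    refine ⟨appL (cokernel.π μ) B (appL biprod.inl B f + appL biprod.inr B z), ?_⟩
    rw [hd, map_add, ← comp_appL, ← comp_appL, biprod.inl_desc, biprod.inr_desc, hf, sub_add_cancel]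
  haveI : IsIso d := isIso_of_mono_of_epi d
  exact (adequate A).prop_of_iso (asIso d)
    (adequate_cokernel μ (adequate_kernel π hP h₃) (adequate_biprod h₁ hP))

/-- An extension of adequate functors is adequate. -/
theorem adequate_ext (S : ShortComplex (MVF A)) (hS : S.ShortExact) (h₁ : adequate A S.X₁) (h₃ : adequate A S.X₃) :
    adequate A S.X₂ := by
  classical
  haveI := hS.mono_f
  haveI := hS.epi_g
  obtain ⟨K, T, i, τ, hinj, hrange⟩ := exists_range_of_adequate h₃
  obtain ⟨e, he⟩ := exists_iso_kernel i ((underline A).map τ) hinj hrange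
  let L : CoverIdx τ → MVF A := fun x => kernel ((underline A).map x.2.2.1)
  have hL : ∀ x, linAdequate A (L x) := fun x => ⟨_, _, x.2.2.1,
    Module.Finite.equiv ULift.moduleEquiv.symm, Module.Free.of_basis (stdBasis A _),
    Module.Finite.equiv ULift.moduleEquiv.symm, Module.Free.of_basis (stdBasis A _), ⟨Iso.refl _⟩⟩
  have w : ∀ x : CoverIdx τ, (kernel.ι ((underline A).map x.2.2.1) ≫ (underline A).map x.2.2.2.1) ≫
      (underline A).map τ = 0 := fun x => hom_ext' fun B z =>
    x.2.2.2.2 B _ (kernelι_appL ((underline A).map x.2.2.1) B z)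
  let φ : ∀ x : CoverIdx τ, L x ⟶ S.X₃ := fun x => kernel.lift _ _ (w x) ≫ e.inv
  have hφ : ∀ x, φ x ≫ i = kernel.ι ((underline A).map x.2.2.1) ≫ (underline A).map x.2.2.2.1 := fun x => by
    rw [← he]
    simp [φ]
  choose ψ hψ using fun x => exists_lift_lin hS h₁ h₃ (hL x) (φ x)
  let π : ∐ L ⟶ S.X₃ := Sigma.desc φ
  let Ψ : ∐ L ⟶ S.X₂ := Sigma.desc ψ
  have hΨ : Ψ ≫ S.g = π := Sigma.hom_ext _ _ fun x => by rw [Sigma.ι_desc_assoc, Sigma.ι_desc, hψ]
  have hsum : adequate A (∐ L) := adequate_sigma L fun x => by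
    obtain ⟨M, N, g, _, _, _, _, h⟩ := hL x
    exact ⟨M, N, g, h⟩
  have hπ : ∀ (B : Alg A) (v : S.X₃.obj (pt B)), ∃ z, appL π B z = v := fun B v => by
    obtain ⟨n, m, a, μ, hμ, z, hz, hzx⟩ := exists_lin_lift τ B (appL i B v) ((hrange B _).2 ⟨v, rfl⟩)
    let x : CoverIdx τ := ⟨n, m, a, μ, hμ⟩
    obtain ⟨z', hz'⟩ := mem_range_kernelι ((underline A).map a) B z hz
    refine ⟨appL (Sigma.ι L x) B z', hinj B ?_⟩
    rw [← comp_appL, ← comp_appL, Sigma.ι_desc_assoc]
    refine (congrArg (fun f => appL f B z') (hφ x)).trans ?_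
    exact (congrArg (μ.hom.baseChange (B : Type u)) hz').trans hzx
  exact adequate_of_lift S hS h₁ h₃ hsum Ψ fun B x => by
    obtain ⟨z, hz⟩ := hπ B x
    exact ⟨z, (congrArg (fun f => appL f B z) hΨ).trans hz⟩

end GrothLib.Adeq20
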