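import Groth.Agent.Lib.Adeq20.Closure
import Mathlib.Algebra.Category.Ring.FilteredColimits
import Mathlib.Algebra.Category.Grp.FilteredColimits
import Mathlib.Algebra.Category.Grp.Colimits
import Mathlib.CategoryTheory.Limits.Constructions.Over.Connected
import Mathlib.CategoryTheory.Limits.Types.Filtered

/-!
# Filtered colimits of algebras and tensor products
-/

set_option autoImplicit false
set_option linter.style.haveILetI false

universe u

open CategoryTheory CategoryTheory.Limits Opposite TensorProduct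

noncomputable section

namespace GrothLib.Adeq20

open Adeq

variable {A : Type u} [CommRing A] {J : Type u} [SmallCategory J] [IsFiltered J]
  {D : J ⥤ Alg A}

/-- A base-changed linear map commutes with a map of algebras. -/
theorem rTensor_baseChange {K T : ModuleCat.{u + 1} A} (g : K ⟶ T) {B B' : Alg A} (f : B ⟶ B')
    (z : (B : Type u) ⊗[A] K) :
    f.hom.toLinearMap.rTensor T (g.hom.baseChange B z) = g.hom.baseChange B' (f.hom.toLinearMap.rTensor K z) := by
  induction z using TensorProduct.induction_on with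
  | zero => simp
  | tmul b k => rfl
  | add x y hx hy => simp only [map_add, hx, hy]

/-- The underlying cocone of types of a filtered colimit of algebras is a colimit. -/
theorem alg_forget_isColimit (c : Cocone D) (hc : IsColimit c) :
    (∀ b : c.pt, ∃ (i : J) (bi : D.obj i), (c.ι.app i).hom bi = b) ∧
      ∀ (i : J) (x y : D.obj i), (c.ι.app i).hom x = (c.ι.app i).hom y →
        ∃ (j : J) (f : i ⟶ j), (D.map f).hom x = (D.map f).hom y := by
  haveI : IsConnected J := IsFiltered.isConnected J
  let G : Alg A ⥤ Type u :=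
    (commAlgCatEquivUnder (CommRingCat.of A)).functor ⋙ Under.forget _ ⋙ forget CommRingCat.{u}
  haveI : PreservesColimit (D ⋙ (commAlgCatEquivUnder (CommRingCat.of A)).functor ⋙ Under.forget _)
      (forget CommRingCat.{u}) := inferInstance
  have hG : IsColimit (G.mapCocone c) := isColimitOfPreserves G hc
  refine ⟨fun b => Types.jointly_surjective_of_isColimit hG b, fun i x y h => ?_⟩
  exact (Types.FilteredColimit.isColimit_eq_iff' hG x y).1 h

/-- An element of `B ⊗[A] K`, `B` a filtered colimit, comes from a stage. -/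
theorem exists_stage (c : Cocone D) (hc : IsColimit c) (K : ModuleCat.{u + 1} A) (z : (c.pt : Type u) ⊗[A] K) :
    ∃ (i : J) (zi : (D.obj i : Type u) ⊗[A] K), ((c.ι.app i).hom.toLinearMap).rTensor K zi = z := by
  induction z using TensorProduct.induction_on with
  | zero => exact ⟨IsFiltered.nonempty.some, 0, map_zero _⟩
  | tmul b k =>
    obtain ⟨i, bi, rfl⟩ := (alg_forget_isColimit c hc).1 b
    exact ⟨i, bi ⊗ₜ k, rfl⟩
  | add x y hx hy =>
    obtain ⟨i, xi, rfl⟩ := hx
    obtain ⟨j, yj, rfl⟩ := hy
    refine ⟨IsFiltered.max i j,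
      ((D.map (IsFiltered.leftToMax i j)).hom.toLinearMap).rTensor K xi +
      ((D.map (IsFiltered.rightToMax i j)).hom.toLinearMap).rTensor K yj, ?_⟩
    rw [map_add, ← LinearMap.rTensor_comp_apply, ← LinearMap.rTensor_comp_apply,
      ← c.w (IsFiltered.leftToMax i j), ← c.w (IsFiltered.rightToMax i j)]
    rfl

/-- An element of `B i ⊗[A] K` vanishing in the colimit vanishes at a later stage. -/
theorem exists_stage_eq_zero (c : Cocone D) (hc : IsColimit c) (K : ModuleCat.{u + 1} A) (i : J)
    (z : (D.obj i : Type u) ⊗[A] K) (hz : ((c.ι.app i).hom.toLinearMap).rTensor K z = 0) :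
    ∃ (j : J) (f : i ⟶ j), ((D.map f).hom.toLinearMap).rTensor K z = 0 := by
  classical
  let E : J ⥤ AddCommGrpCat.{u + 1} := D ⋙ ((underline A).obj K).toAb
  let t : Cocone E := colimit.cocone E
  let ins : ∀ i, (D.obj i : Type u) ⊗[A] K →+ t.pt := fun i => (t.ι.app i).hom
  have hins : ∀ {i j : J} (f : i ⟶ j) (y : (D.obj i : Type u) ⊗[A] K),
      ins j (((D.map f).hom.toLinearMap).rTensor K y) = ins i y := fun f y =>
    congrArg (fun g => (ConcreteCategory.hom g) y) (t.w f)
  obtain ⟨hsurj, hinj⟩ := alg_forget_isColimit c hc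
  choose idx lift hlift using hsurj
  have key : ∀ (i : J) (x : D.obj i) (k : K),
      ins (idx ((c.ι.app i).hom x)) (lift ((c.ι.app i).hom x) ⊗ₜ k) = ins i (x ⊗ₜ k) := fun i x k => by
    let j := idx ((c.ι.app i).hom x)
    have hc' : ∀ {p q : J} (f : p ⟶ q) (v : D.obj p), (c.ι.app q).hom ((D.map f).hom v) = (c.ι.app p).hom v :=
      fun f v => by rw [← c.w f]; rfl
    obtain ⟨l, g, hg⟩ := hinj (IsFiltered.max j i)
      ((D.map (IsFiltered.leftToMax j i)).hom (lift ((c.ι.app i).hom x)))
      ((D.map (IsFiltered.rightToMax j i)).hom x) (by rw [hc', hc', hlift])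
    rw [← hins (IsFiltered.leftToMax j i ≫ g), ← hins (IsFiltered.rightToMax j i ≫ g),
      LinearMap.rTensor_tmul, LinearMap.rTensor_tmul, Functor.map_comp, Functor.map_comp]
    exact congrArg (fun v => ins l (v ⊗ₜ k)) hg
  let back : (c.pt : Type u) →+ K →+ t.pt := AddMonoidHom.mk'
    (fun b => AddMonoidHom.mk' (fun k => ins (idx b) (lift b ⊗ₜ k))
      (fun k k' => by rw [TensorProduct.tmul_add, map_add]))
    (fun b b' => by
      ext k
      change ins (idx (b + b')) (lift (b + b') ⊗ₜ k) = ins (idx b) (lift b ⊗ₜ k) + ins (idx b') (lift b' ⊗ₜ k)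
      let p := IsFiltered.max (idx b) (idx b')
      let v := (D.map (IsFiltered.leftToMax (idx b) (idx b'))).hom (lift b)
      let v' := (D.map (IsFiltered.rightToMax (idx b) (idx b'))).hom (lift b')
      have hv : (c.ι.app p).hom (v + v') = b + b' := by
        rw [map_add]
        conv_rhs => rw [← hlift b, ← hlift b', ← c.w (IsFiltered.leftToMax (idx b) (idx b')),
          ← c.w (IsFiltered.rightToMax (idx b) (idx b'))]
        rfl
      rw [← hins (IsFiltered.leftToMax (idx b) (idx b')), ← hins (IsFiltered.rightToMax (idx b) (idx b')),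
        ← map_add]
      have h2 := key p (v + v') k
      rw [hv] at h2
      rw [h2, TensorProduct.add_tmul]
      rfl)
  have hback : ∀ (i : J) (x : D.obj i) (k : K), back ((c.ι.app i).hom x) k = ins i (x ⊗ₜ k) := key
  let L : (c.pt : Type u) ⊗[A] K →+ t.pt := TensorProduct.liftAddHom back fun r b k => by
    rw [← hlift b, ← map_smul (c.ι.app (idx b)).hom, hback, hback, TensorProduct.smul_tmul]
  have hL : ∀ (i : J) (y : (D.obj i : Type u) ⊗[A] K),
      L (((c.ι.app i).hom.toLinearMap).rTensor K y) = ins i y := fun i y => by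
    induction y using TensorProduct.induction_on with
    | zero => simp
    | tmul x k => exact hback i x k
    | add y y' h h' => simp only [map_add, h, h']
  have h0 : t.ι.app i z = t.ι.app i (0 : (D.obj i : Type u) ⊗[A] K) := by
    change ins i z = ins i 0
    rw [← hL, hz, map_zero, map_zero]
  haveI : PreservesFilteredColimitsOfSize.{u, u} (forget AddCommGrpCat.{u + 1}) :=
    preservesFilteredColimitsOfSize_shrink.{u, u + 1, u, u + 1} _
  have ht : IsColimit ((forget AddCommGrpCat.{u + 1}).mapCocone t) :=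
    isColimitOfPreserves _ (colimit.isColimit E)
  obtain ⟨j, f, hf⟩ := (Types.FilteredColimit.isColimit_eq_iff' ht z (0 : (D.obj i : Type u) ⊗[A] K)).1 h0
  refine ⟨j, f, ?_⟩
  have h1 : (E.map f).hom z = (E.map f).hom 0 := hf
  rwa [map_zero] at h1

/-- An adequate functor commutes with filtered colimits of algebras. -/
theorem adequate_filtered {F : MVF A} (hF : adequate A F) (c : Cocone D) (hc : IsColimit c) :
    Nonempty (IsColimit (F.toAb.mapCocone c)) := by
  obtain ⟨K, T, i, τ, hinj, hrange⟩ := exists_range_of_adequate hF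
  have hnat : ∀ {B B' : Alg A} (f : B ⟶ B') (x : F.obj (pt B)),
      appL i B' (F.map (ptHom f) x) = f.hom.toLinearMap.rTensor K (appL i B x) := fun f x =>
    (map_appL i f x).symm
  haveI : PreservesFilteredColimitsOfSize.{u, u} (forget AddCommGrpCat.{u + 1}) :=
    preservesFilteredColimitsOfSize_shrink.{u, u + 1, u, u + 1} _
  haveI : ReflectsColimit (D ⋙ F.toAb) (forget AddCommGrpCat.{u + 1}) :=
    reflectsColimit_of_reflectsIsomorphisms _ _
  refine ⟨isColimitOfReflects (forget AddCommGrpCat.{u + 1})
    (Types.FilteredColimit.isColimitOf' _ _ (fun (y : F.obj (pt c.pt)) => ?_)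
      (fun p (x x' : F.obj (pt (D.obj p))) (h : F.map (ptHom (c.ι.app p)) x = F.map (ptHom (c.ι.app p)) x') => ?_))⟩
  · obtain ⟨p, z, hz⟩ := exists_stage c hc K (appL i c.pt y)
    have h1 : (c.ι.app p).hom.toLinearMap.rTensor T (τ.hom.baseChange (D.obj p : Type u) z) = 0 := by
      rw [rTensor_baseChange, hz]
      exact (hrange c.pt _).2 ⟨y, rfl⟩
    obtain ⟨q, f, hf⟩ := exists_stage_eq_zero c hc T p _ h1
    obtain ⟨w, hw⟩ := (hrange (D.obj q) ((D.map f).hom.toLinearMap.rTensor K z)).1
      ((rTensor_baseChange τ (D.map f) z).symm.trans hf)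
    refine ⟨q, w, hinj c.pt ?_⟩
    change appL i c.pt y = appL i c.pt (F.map (ptHom (c.ι.app q)) w)
    rw [hnat, hw, ← hz, ← LinearMap.rTensor_comp_apply, ← c.w f]
    rfl
  · have h1 : (c.ι.app p).hom.toLinearMap.rTensor K (appL i (D.obj p) x - appL i (D.obj p) x') = 0 :=
      (map_sub _ _ _).trans (sub_eq_zero.2 ((hnat (c.ι.app p) x).symm.trans
        ((congrArg (appL i c.pt) h).trans (hnat (c.ι.app p) x'))))
    obtain ⟨q, f, hf⟩ := exists_stage_eq_zero c hc K p _ h1
    refine ⟨q, f, hinj (D.obj q) ?_⟩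
    change appL i (D.obj q) (F.map (ptHom (D.map f)) x) = appL i (D.obj q) (F.map (ptHom (D.map f)) x')
    rw [hnat, hnat]
    exact sub_eq_zero.1 ((map_sub _ _ _).symm.trans hf)

end GrothLib.Adeq20
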