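import Groth.Agent.Lib.Adeq20.Closure
import Mathlib.RingTheory.RingHom.Flat
import Mathlib.RingTheory.Flat.Basic
import Mathlib.LinearAlgebra.TensorProduct.Tower

/-!
# Adequate functors and flat maps
-/

set_option autoImplicit false
set_option linter.style.haveILetI false

universe u

open CategoryTheory CategoryTheory.Limits Opposite TensorProduct

noncomputable section

namespace GrothLib.Adeq20

open Adeq

variable {A : Type u} [CommRing A]

/-- The value of `bc` on a pure tensor. -/
theorem bc_tmul (F : MVF A) {B B' : Alg A} (f : B ⟶ B') (b : B') (x : F.obj (pt B)) :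
    letI : Algebra B B' := f.hom.toRingHom.toAlgebra
    (F.bc f).hom (b ⊗ₜ[B] x) = (show F.obj (pt B') from b • F.map (ptHom f) x) := by
  rfl

theorem adequate_flat {F : MVF A} (hF : adequate A F) {B B' : Alg A} (f : B ⟶ B')
    (hf : f.hom.toRingHom.Flat) : IsIso (F.bc f) := by
  obtain ⟨K, T, i, τ, hinj, hrange⟩ := exists_range_of_adequate hF
  letI : Algebra B B' := f.hom.toRingHom.toAlgebra
  haveI : IsScalarTower A B B' := IsScalarTower.of_algebraMap_eq fun a => (f.hom.commutes a).symm
  haveI : Module.Flat B B' := hf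
  let i₀ : F.obj (pt B) →ₗ[B] (B : Type u) ⊗[A] K := appL i B
  let i₁ : F.obj (pt B') →ₗ[B'] (B' : Type u) ⊗[A] K := appL i B'
  let τ₀ : (B : Type u) ⊗[A] K →ₗ[B] (B : Type u) ⊗[A] T := τ.hom.baseChange B
  let cK := TensorProduct.AlgebraTensorModule.cancelBaseChange A B B' (B' : Type u) K
  let cT := TensorProduct.AlgebraTensorModule.cancelBaseChange A B B' (B' : Type u) T
  have hex : Function.Exact (i₀.lTensor (B' : Type u)) (τ₀.lTensor (B' : Type u)) :=
    Module.Flat.lTensor_exact (B' : Type u) (fun x => hrange B x)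
  have hi : Function.Injective (i₀.lTensor (B' : Type u)) :=
    Module.Flat.lTensor_preserves_injective_linearMap i₀ (hinj B)
  have hu : ∀ y : (B : Type u) ⊗[A] K, cK ((1 : B') ⊗ₜ[B] y) = f.hom.toLinearMap.rTensor K y := fun y => by
    induction y using TensorProduct.induction_on with
    | zero => simp
    | tmul b k =>
      rw [TensorProduct.AlgebraTensorModule.cancelBaseChange_tmul, LinearMap.rTensor_tmul, Algebra.smul_def, mul_one]
      rfl
    | add x y hx hy => rw [TensorProduct.tmul_add, map_add, map_add, hx, hy]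
  have hsq : ∀ w : (B' : Type u) ⊗[B] F.obj (pt B),
      i₁ ((F.bc f).hom w) = cK (i₀.lTensor (B' : Type u) w) := fun w => by
    induction w using TensorProduct.induction_on with
    | zero => exact (congrArg i₁ (map_zero (F.bc f).hom)).trans ((map_zero i₁).trans (by rw [map_zero, map_zero]))
    | tmul b x =>
      rw [LinearMap.lTensor_tmul]
      refine ((congrArg i₁ (bc_tmul F f b x)).trans (map_smul i₁ b _)).trans ?_
      have h1 : b ⊗ₜ[B] i₀ x = b • ((1 : B') ⊗ₜ[B] i₀ x) := by rw [TensorProduct.smul_tmul', smul_eq_mul, mul_one]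
      rw [h1, map_smul, hu]
      exact congrArg (b • ·) (map_appL i f x).symm
    | add x y hx hy => exact (congrArg i₁ (map_add _ x y)).trans ((map_add i₁ _ _).trans ((congrArg₂ (· + ·) hx hy).trans (by rw [map_add, map_add])))
  have hτ : ∀ z : (B' : Type u) ⊗[B] ((B : Type u) ⊗[A] K),
      cT (τ₀.lTensor (B' : Type u) z) = τ.hom.baseChange B' (cK z) := fun z => by
    induction z using TensorProduct.induction_on with
    | zero => simp
    | tmul b y =>
      induction y using TensorProduct.induction_on with
      | zero => simp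
      | tmul c k =>
        simp only [τ₀, cT, cK, LinearMap.lTensor_tmul, LinearMap.baseChange_tmul,
          TensorProduct.AlgebraTensorModule.cancelBaseChange_tmul]
      | add x y hx hy => simp only [TensorProduct.tmul_add, map_add, hx, hy]
    | add x y hx hy => simp only [map_add, hx, hy]
  rw [ConcreteCategory.isIso_iff_bijective]
  refine ⟨fun w w' (h : (F.bc f).hom w = (F.bc f).hom w') => hi (cK.injective ?_), fun (y : F.obj (pt B')) => ?_⟩
  · rw [← hsq, ← hsq, h]
  · have h0 : τ₀.lTensor (B' : Type u) (cK.symm (i₁ y)) = 0 := by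
      apply cT.injective
      rw [hτ, LinearEquiv.apply_symm_apply, map_zero]
      exact (hrange B' _).2 ⟨y, rfl⟩
    obtain ⟨w, hw⟩ := (hex _).1 h0
    refine ⟨w, hinj B' ?_⟩
    change i₁ ((F.bc f).hom w) = i₁ y
    rw [hsq, hw, LinearEquiv.apply_symm_apply]

end GrothLib.Adeq20
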