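import Groth.Agent.Lib.Adeq20.Dual
import Groth.Agent.Lib.Adeq20.Closure

/-!
# Maps from linearly adequate functors lift along extensions of adequate functors
-/

set_option autoImplicit false
set_option linter.style.haveILetI false
set_option maxHeartbeats 800000

universe u

open CategoryTheory CategoryTheory.Limits Opposite TensorProduct

noncomputable section

namespace GrothLib.Adeq20

open Adeq

variable {A : Type u} [CommRing A]

section Extension

variable {S : ShortComplex (MVF A)} (hS : S.ShortExact) (h₁ : adequate A S.X₁) (h₃ : adequate A S.X₃)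

include hS h₁ h₃ in
theorem theta_injective_mid (B : Alg A) : Function.Injective (theta S.X₂ B) := by
  haveI := hS.mono_f
  refine (injective_iff_map_eq_zero _).2 fun x hx => ?_
  have h : appL S.g B x = 0 := theta_injective h₃ B (by
    rw [← appL_theta, hx, map_zero, map_zero])
  obtain ⟨m, rfl⟩ := exact_appL hS.exact B x h
  have hm : theta S.X₁ B m = theta S.X₁ B 0 := injective_appL S.f _ (by
    rw [appL_theta, hx, map_zero, map_zero])
  rw [theta_injective h₁ B hm, map_zero]

include hS h₁ h₃ in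
theorem theta_surjective_mid (B : Alg A) (y : S.X₂.obj (pt (dualAlg B)))
    (hy : mapA S.X₂ (augHom B) y = 0) : ∃ x, theta S.X₂ B x = y := by
  haveI := hS.mono_f
  haveI := hS.epi_g
  obtain ⟨l, hl⟩ := theta_surjective h₃ B (appL S.g (dualAlg B) y)
    ((mapA_appL S.g (augHom B) y).trans ((congrArg (appL S.g B) hy).trans (map_zero _)))
  obtain ⟨x, rfl⟩ := surjective_appL S.g B l
  obtain ⟨m', hm'⟩ := exact_appL hS.exact (dualAlg B) (y - theta S.X₂ B x) (by
    rw [map_sub, appL_theta, hl, sub_self])
  obtain ⟨m, rfl⟩ := theta_surjective h₁ B m' (injective_appL S.f B (by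
    refine (mapA_appL S.f (augHom B) m').symm.trans ?_
    rw [hm', map_sub, hy, aug_theta, sub_zero]
    exact (map_zero (appL S.f B)).symm))
  refine ⟨x + appL S.f B m, ?_⟩
  rw [map_add, ← appL_theta, hm', add_sub_cancel]

include hS h₁ h₃ in
theorem pair_joint_mid (B : Alg A) (y : S.X₂.obj (pt (pairAlg B))) (h₀ : mapA S.X₂ (augPair B) y = 0)
    (hfst : mapA S.X₂ (collapse B (LinearMap.fst _ _ _)) y = 0)
    (hsnd : mapA S.X₂ (collapse B (LinearMap.snd _ _ _)) y = 0) : y = 0 := by
  haveI := hS.mono_f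
  obtain ⟨m, rfl⟩ := exact_appL hS.exact (pairAlg B) y (pair_joint h₃ B _
    ((mapA_appL S.g (augPair B) y).trans ((congrArg (appL S.g B) h₀).trans (map_zero _)))
    ((mapA_appL S.g (collapse B (LinearMap.fst _ _ _)) y).trans ((congrArg (appL S.g (dualAlg B)) hfst).trans (map_zero _)))
    ((mapA_appL S.g (collapse B (LinearMap.snd _ _ _)) y).trans ((congrArg (appL S.g (dualAlg B)) hsnd).trans (map_zero _))))
  rw [pair_joint h₁ B m (injective_appL S.f B (((mapA_appL S.f (augPair B) m).symm.trans h₀).trans (map_zero _).symm))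
    (injective_appL S.f _ (((mapA_appL S.f (collapse B (LinearMap.fst _ _ _)) m).symm.trans hfst).trans (map_zero _).symm))
    (injective_appL S.f _ (((mapA_appL S.f (collapse B (LinearMap.snd _ _ _)) m).symm.trans hsnd).trans (map_zero _).symm)), map_zero]

end Extension

section Universal

variable {n : Type} [Fintype n] [DecidableEq n] {P P' : ModuleCat.{u + 1} A} (bP : Module.Basis n A P)
  {m : Type} [Fintype m] (bP' : Module.Basis m A P') (a : P ⟶ P')

theorem univHom_ext {X : Alg A} (f g : univAlg bP bP' a ⟶ X)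
    (h : ∀ j, f.hom (xi bP bP' a j) = g.hom (xi bP bP' a j)) : f = g := by
  refine CommAlgCat.hom_ext (TrivSqZeroExt.algHom_ext fun q => ?_)
  obtain ⟨c, rfl⟩ := Submodule.Quotient.mk_surjective _ q
  have e : ∀ k : univAlg bP bP' a ⟶ X,
      k.hom.toLinearMap ∘ₗ (TrivSqZeroExt.inrHom A (Qrel bP bP' a)) ∘ₗ Submodule.mkQ _ =
        Fintype.linearCombination A (fun j => k.hom (xi bP bP' a j)) := fun k => by
    refine (Pi.basisFun A n).ext fun j => ?_
    simp [Fintype.linearCombination_apply_single, xi]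
  exact LinearMap.congr_fun ((e f).trans (by rw [funext h, ← e g])) c

/-- The projection of the universal algebra. -/
def rho : univAlg bP bP' a ⟶ algOf A A := CommAlgCat.ofHom (TrivSqZeroExt.fstHom A A (Qrel bP bP' a))

/-- The structure map. -/
def structHom (B : Alg A) : algOf A A ⟶ B := CommAlgCat.ofHom (Algebra.ofId A (B : Type u))

/-- The map attached to a pair of solutions. -/
def solPair (B : Alg A) (y y' : n → B) (hy : ∀ i, ∑ j, bP'.repr (a.hom (bP j)) i • y j = 0)
    (hy' : ∀ i, ∑ j, bP'.repr (a.hom (bP j)) i • y' j = 0) : univAlg bP bP' a ⟶ pairAlg B :=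
  let l : Qrel bP bP' a →ₗ[A] Prod (B : Type u) (B : Type u) :=
    Submodule.liftQ _ (Fintype.linearCombination A fun j => (y j, y' j)) (by
      rw [Submodule.span_le]
      rintro _ ⟨i, rfl⟩
      refine Prod.ext ?_ ?_
      · simpa [Fintype.linearCombination_apply, Prod.fst_sum] using hy i
      · simpa [Fintype.linearCombination_apply, Prod.snd_sum] using hy' i)
  CommAlgCat.ofHom (TrivSqZeroExt.lift (Algebra.ofId A _)
    (((TrivSqZeroExt.inrHom (B : Type u) (Prod (B : Type u) (B : Type u))).restrictScalars A) ∘ₗ l)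
    (fun _ _ => TrivSqZeroExt.inr_mul_inr _ _ _)
    (fun r q => by simp [Algebra.smul_def])
    (fun r q => by simp [Algebra.smul_def, mul_comm]))

theorem solPair_xi (B : Alg A) (y y' : n → B) (hy : ∀ i, ∑ j, bP'.repr (a.hom (bP j)) i • y j = 0)
    (hy' : ∀ i, ∑ j, bP'.repr (a.hom (bP j)) i • y' j = 0) (j : n) :
    (solPair bP bP' a B y y' hy hy').hom (xi bP bP' a j) = TrivSqZeroExt.inr (y j, y' j) := by
  simp only [solPair, xi, CommAlgCat.hom_ofHom]
  refine (TrivSqZeroExt.lift_apply_inr _ _ _ _ _ _).trans ?_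
  simp [Fintype.linearCombination_apply_single]

include bP bP' in
/-- **Lifting a map from a linearly adequate functor.** -/
theorem exists_lift {S : ShortComplex (MVF A)} (hS : S.ShortExact) (h₁ : adequate A S.X₁) (h₃ : adequate A S.X₃)
    (φ : kernel ((underline A).map a) ⟶ S.X₃) : ∃ ψ : kernel ((underline A).map a) ⟶ S.X₂, ψ ≫ S.g = φ := by
  haveI := hS.mono_f
  haveI := hS.epi_g
  let L := kernel ((underline A).map a)
  let ι := kernel.ι ((underline A).map a)
  let R := univAlg bP bP' a
  obtain ⟨ξ, hξ⟩ := mem_range_kernelι ((underline A).map a) R (∑ j, xi bP bP' a j ⊗ₜ[A] bP j)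
    ((solution_iff bP bP' a R _).2 (xi_relation bP bP' a))
  have hρξ : mapA L (rho bP bP' a) ξ = 0 := injective_appL ι (algOf A A) (by
    refine Eq.trans ?_ (map_zero (appL ι (algOf A A))).symm
    refine (mapA_appL ι (rho bP bP' a) ξ).symm.trans ?_
    rw [hξ]
    change (rho bP bP' a).hom.toLinearMap.rTensor P (∑ j, xi bP bP' a j ⊗ₜ[A] bP j) = 0
    rw [map_sum]
    refine Finset.sum_eq_zero fun j _ => ?_
    rw [LinearMap.rTensor_tmul, show (rho bP bP' a).hom.toLinearMap (xi bP bP' a j) = 0 from rfl, TensorProduct.zero_tmul])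
  obtain ⟨e₀, he₀⟩ := surjective_appL S.g R (appL φ R ξ)
  obtain ⟨m₀, hm₀⟩ := exact_appL hS.exact (algOf A A) (mapA S.X₂ (rho bP bP' a) e₀)
    ((mapA_appL S.g (rho bP bP' a) e₀).symm.trans (by rw [he₀, mapA_appL, hρξ, map_zero]))
  let e : S.X₂.obj (pt R) := e₀ - appL S.f R (mapA S.X₁ (structHom R) m₀)
  have heg : appL S.g R e = appL φ R ξ := by
    rw [map_sub, he₀, ← comp_appL S.f S.g, S.zero]
    exact sub_zero _
  have heρ : mapA S.X₂ (rho bP bP' a) e = 0 := by
    refine (map_sub _ _ _).trans (sub_eq_zero.2 (hm₀.symm.trans ?_))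
    rw [mapA_appL S.f (rho bP bP' a), map_comp', map_congr S.X₁ (g := 𝟙 _) (CommAlgCat.hom_ext (Algebra.ext_id _ _ _ : _ = _)) m₀]
    rw [mapA_id]
  -- the map of the universal algebra classifying an element
  choose y hy using fun (B : Alg A) (l : L.obj (pt B)) => exists_coeff bP B (appL ι B l)
  have hy' : ∀ (B : Alg A) (l : L.obj (pt B)) i, ∑ j, bP'.repr (a.hom (bP j)) i • y B l j = 0 := fun B l =>
    (solution_iff bP bP' a B _).1 (by rw [← hy B l]; exact kernelι_appL ((underline A).map a) B l)
  have hyu : ∀ (B : Alg A) (l : L.obj (pt B)) (y' : n → B), appL ι B l = ∑ j, y' j ⊗ₜ[A] bP j → y B l = y' := by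
    intro B l y' h
    have h' := congrArg (bP.baseChange (B : Type u)).repr ((hy B l).symm.trans h)
    have key : ∀ (v : n → B) (k : n),
        (bP.baseChange (B : Type u)).repr (∑ j, v j ⊗ₜ[A] bP j) k = v k := fun v k => by
      simp [map_sum, Finsupp.single_apply]
    funext k
    rw [← key (y B l) k, ← key y' k, h']
  let f : ∀ (B : Alg A) (_ : L.obj (pt B)), R ⟶ dualAlg B := fun B l => solHom bP bP' a B (y B l) (hy' B l)
  have hf : ∀ B l j, (f B l).hom (xi bP bP' a j) = TrivSqZeroExt.inr (y B l j) := fun B l j => solHom_xi ..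
  have hfθ : ∀ B l, mapA L (f B l) ξ = theta L B l := fun B l => by
    refine injective_appL ι (dualAlg B) ?_
    rw [appL_theta, ← mapA_appL, hξ, hy B l]
    change (f B l).hom.toLinearMap.rTensor P (∑ j, xi bP bP' a j ⊗ₜ[A] bP j) =
      (TrivSqZeroExt.inr (1 : (B : Type u)) : dualAlg B) •
        ((inclHom B).hom.toLinearMap.rTensor P (∑ j, y B l j ⊗ₜ[A] bP j) : (dualAlg B : Type u) ⊗[A] P)
    rw [map_sum, map_sum, Finset.smul_sum]
    refine Finset.sum_congr rfl fun j _ => ?_
    rw [LinearMap.rTensor_tmul, LinearMap.rTensor_tmul, TensorProduct.smul_tmul', AlgHom.toLinearMap_apply, hf,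
      AlgHom.toLinearMap_apply]
    congr 1
    refine TrivSqZeroExt.ext ?_ ?_ <;> simp [inclHom]
  have haug : ∀ B l, mapA S.X₂ (augHom B) (mapA S.X₂ (f B l) e) = 0 := fun B l => by
    rw [map_comp', map_congr S.X₂ (g := rho bP bP' a ≫ structHom B) (univHom_ext bP bP' a _ _ fun j => ?_) e,
      ← map_comp', heρ, map_zero]
    change (augHom B).hom ((f B l).hom (xi bP bP' a j)) = (structHom B).hom (0 : A)
    rw [hf, map_zero]
    rfl
  choose s hs using fun B l => theta_surjective_mid hS h₁ h₃ B (mapA S.X₂ (f B l) e) (haug B l)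
  have inj := theta_injective_mid hS h₁ h₃
  have hnat : ∀ {B B' : Alg A} (g : B ⟶ B') (l : L.obj (pt B)),
      s B' (mapA L g l) = mapA S.X₂ g (s B l) := fun {B B'} g l => by
    refine inj B' ?_
    rw [hs, ← map_theta, hs, map_comp']
    refine map_congr S.X₂ (univHom_ext bP bP' a _ _ fun j => ?_) e
    change (f B' _).hom (xi bP bP' a j) = (dualMap g).hom ((f B l).hom (xi bP bP' a j))
    rw [hf, hf, dualMap_inr]
    congr 1
    refine congrFun (hyu B' _ (fun j => g.hom (y B l j)) ?_) j
    rw [← mapA_appL, hy B l]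
    exact map_sum (g.hom.toLinearMap.rTensor P) _ _
  have hsmul : ∀ (B : Alg A) (b : B) (l : L.obj (pt B)), s B (b • l) = b • s B l := fun B b l => by
    refine inj B ?_
    rw [hs, ← scale_theta, hs, map_comp']
    refine map_congr S.X₂ (univHom_ext bP bP' a _ _ fun j => ?_) e
    change (f B _).hom (xi bP bP' a j) = (scaleHom b).hom ((f B l).hom (xi bP bP' a j))
    rw [hf, hf, scaleHom_inr]
    congr 1
    refine congrFun (hyu B _ (fun j => b * y B l j) ?_) j
    rw [map_smul, hy B l]
    change b • (∑ j, y B l j ⊗ₜ[A] bP j : (B : Type u) ⊗[A] P) = _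
    rw [Finset.smul_sum]
    refine Finset.sum_congr rfl fun j _ => ?_
    exact TensorProduct.smul_tmul' b _ _
  have hadd : ∀ (B : Alg A) (l l' : L.obj (pt B)), s B (l + l') = s B l + s B l' := fun B l l' => by
    let F : R ⟶ pairAlg B := solPair bP bP' a B (y B l) (y B l') (hy' B l) (hy' B l')
    let ins : Prod (B : Type u) (B : Type u) → S.X₂.obj (pt B) → S.X₂.obj (pt (pairAlg B)) := fun v x =>
      (TrivSqZeroExt.inr v : TrivSqZeroExt (B : Type u) (Prod (B : Type u) (B : Type u))) •
        (show S.X₂.obj (pt (pairAlg B)) from mapA S.X₂ (inclPair B) x)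
    have hins : ∀ v x, mapA S.X₂ (augPair B) (ins v x) = 0 := fun v x => by
      refine (mapA_smul _ _ _ _).trans ?_
      exact zero_smul (B : Type u) _
    have hcomp : ∀ (q : Prod (B : Type u) (B : Type u) →ₗ[B] (B : Type u)) (l₀ : L.obj (pt B)),
        (∀ j, q (y B l j, y B l' j) = y B l₀ j) →
          mapA S.X₂ (collapse B q) (mapA S.X₂ F e) = theta S.X₂ B (s B l₀) := fun q l₀ hq => by
      rw [hs, map_comp']
      refine map_congr S.X₂ (univHom_ext bP bP' a _ _ fun j => ?_) e
      change (collapse B q).hom (F.hom (xi bP bP' a j)) = (f B l₀).hom (xi bP bP' a j)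
      rw [hf, solPair_xi, collapse_inr, hq]
    let d := mapA S.X₂ F e - ins (1, 0) (s B l) - ins (0, 1) (s B l')
    have hd : ∀ q, mapA S.X₂ (collapse B q) d =
        mapA S.X₂ (collapse B q) (mapA S.X₂ F e) - theta S.X₂ B (q (1, 0) • s B l) -
          theta S.X₂ B (q (0, 1) • s B l') := fun q => by
      rw [← collapse_pair S.X₂ B q (1, 0), ← collapse_pair S.X₂ B q (0, 1)]
      exact (map_sub _ _ _).trans (congrArg (· - _) (map_sub _ _ _))
    have hd0 : d = 0 := by
      refine pair_joint_mid hS h₁ h₃ B d ?_ ?_ ?_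
      · refine (map_sub _ _ _).trans ?_
        rw [map_sub, hins, hins, sub_zero, sub_zero, map_comp',
          map_congr S.X₂ (g := rho bP bP' a ≫ structHom B) (univHom_ext bP bP' a _ _ fun j => ?_) e,
          ← map_comp', heρ, map_zero]
        change (augPair B).hom (F.hom (xi bP bP' a j)) = (structHom B).hom (0 : A)
        rw [solPair_xi, map_zero]
        rfl
      · rw [hd, hcomp _ l (fun _ => rfl)]
        simp
      · rw [hd, hcomp _ l' (fun _ => rfl)]
        simp
    have h2 := hd (LinearMap.fst B (B : Type u) (B : Type u) + LinearMap.snd B (B : Type u) (B : Type u))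
    rw [hd0, map_zero, hcomp _ (l + l') (fun j => ?_)] at h2
    · simp only [LinearMap.add_apply, LinearMap.fst_apply, LinearMap.snd_apply, add_zero, zero_add, one_smul] at h2
      refine inj B ?_
      rw [map_add]
      exact sub_eq_zero.1 ((sub_sub _ _ _).symm.trans h2.symm)
    · refine (congrFun (hyu B (l + l') (fun j => y B l j + y B l' j) ?_) j).symm
      rw [map_add, hy B l, hy B l']
      simp only [TensorProduct.add_tmul, Finset.sum_add_distrib]
      rfl
  refine ⟨PresheafOfModules.homMk
    { app := fun X => AddCommGrpCat.ofHom (AddMonoidHom.mk' (s X.unop.unop) (hadd X.unop.unop))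
      naturality := fun {X Y} g => by
        ext l
        exact hnat g.unop.unop l }
    (fun X r l => hsmul X.unop.unop r l), hom_ext' fun B l => ?_⟩
  rw [comp_appL]
  refine theta_injective h₃ B ?_
  change theta S.X₃ B (appL S.g B (s B l)) = theta S.X₃ B (appL φ B l)
  rw [← appL_theta, hs, ← appL_theta, ← mapA_appL, heg, mapA_appL, hfθ]

end Universal

end GrothLib.Adeq20
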