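import Groth.Agent.Lib.Adeq20.Basic
import Mathlib.Algebra.TrivSqZeroExt.Basic
import Mathlib.LinearAlgebra.TensorProduct.Basis
import Mathlib.RingTheory.TensorProduct.Free

/-!
# Linearly adequate functors: the universal square-zero element
-/

set_option autoImplicit false
set_option linter.style.haveILetI false

universe u

open CategoryTheory CategoryTheory.Limits Opposite TensorProduct

noncomputable section

namespace GrothLib.Adeq20

open Adeq

variable {A : Type u} [CommRing A]

/-- The trivial square-zero extension of `B` by itself. -/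
abbrev dualAlg (B : Alg A) : Alg A := algOf A (TrivSqZeroExt (B : Type u) (B : Type u))

/-- Its projection. -/
def augHom (B : Alg A) : dualAlg B ⟶ B := CommAlgCat.ofHom (TrivSqZeroExt.fstHom A _ _)

/-- The inclusion of constants. -/
def inclHom (B : Alg A) : B ⟶ dualAlg B :=
  CommAlgCat.ofHom (TrivSqZeroExt.inlAlgHom A (B : Type u) (B : Type u))

/-- The second projection. -/
def epsLin (B : Alg A) : (TrivSqZeroExt (B : Type u) (B : Type u)) →ₗ[A] (B : Type u) :=
  (TrivSqZeroExt.sndHom (B : Type u) (B : Type u)).restrictScalars A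

theorem epsLin_inr (B : Alg A) (b : B) : epsLin B (TrivSqZeroExt.inr b) = b := rfl

section Universal

variable {n : Type*} [Fintype n] {P P' : ModuleCat.{u + 1} A} (bP : Module.Basis n A P)
  {m : Type*} [Fintype m] (bP' : Module.Basis m A P') (a : P ⟶ P')

/-- The module of coordinates of the universal solution. -/
abbrev Qrel : Type _ := (n → A) ⧸ Submodule.span A (Set.range fun (i : m) (j : n) => bP'.repr (a.hom (bP j)) i)

theorem baseChange_repr (B : Alg A) (y : n → B) (i : m) :
    (bP'.baseChange (B : Type u)).repr (a.hom.baseChange (B : Type u) (∑ j, y j ⊗ₜ[A] bP j)) i =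
      ∑ j, bP'.repr (a.hom (bP j)) i • y j := by
  simp [map_sum, Algebra.smul_def, mul_comm]

theorem exists_coeff (B : Alg A) (x : (B : Type u) ⊗[A] P) :
    ∃ y : n → B, x = ∑ j, y j ⊗ₜ[A] bP j := by
  refine ⟨fun j => (bP.baseChange (B : Type u)).repr x j, ?_⟩
  conv_lhs => rw [← (bP.baseChange (B : Type u)).sum_repr x]
  refine Finset.sum_congr rfl fun j _ => ?_
  simp [TensorProduct.smul_tmul']

theorem solution_iff (B : Alg A) (y : n → B) :
    a.hom.baseChange (B : Type u) (∑ j, y j ⊗ₜ[A] bP j) = 0 ↔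
      ∀ i, ∑ j, bP'.repr (a.hom (bP j)) i • y j = 0 := by
  refine ⟨fun h i => ?_, fun h => ?_⟩
  · rw [← baseChange_repr bP bP' a B y i, h]
    simp
  · refine (bP'.baseChange (B : Type u)).repr.injective (Finsupp.ext fun i => ?_)
    rw [baseChange_repr bP bP' a B y i, h, map_zero]
    rfl

end Universal

variable {n : Type} [Fintype n] [DecidableEq n] {P P' : ModuleCat.{u + 1} A} (bP : Module.Basis n A P)
  {m : Type} [Fintype m] (bP' : Module.Basis m A P') (a : P ⟶ P')

instance : IsCentralScalar A (Qrel bP bP' a) := ⟨fun r q => by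
  obtain ⟨x, rfl⟩ := Submodule.Quotient.mk_surjective _ q
  rw [← Submodule.Quotient.mk_smul, ← Submodule.Quotient.mk_smul, op_smul_eq_smul]⟩

/-- The algebra of the universal solution. -/
abbrev univAlg : Alg A := algOf A (TrivSqZeroExt A (Qrel bP bP' a))

/-- The universal coordinates. -/
def xi (j : n) : univAlg bP bP' a := TrivSqZeroExt.inr (Submodule.Quotient.mk (Pi.single j 1))

theorem xi_relation (i : m) : ∑ j, bP'.repr (a.hom (bP j)) i • xi bP bP' a j = 0 := by
  have h : ∑ j, bP'.repr (a.hom (bP j)) i • (Pi.single j 1 : n → A) =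
      fun j => bP'.repr (a.hom (bP j)) i := by
    ext k
    simp [Finset.sum_apply, Pi.single_apply]
  simp only [xi, ← TrivSqZeroExt.inr_smul, ← Submodule.Quotient.mk_smul, ← TrivSqZeroExt.inr_sum]
  have h2 : ∑ j, (Submodule.Quotient.mk (bP'.repr (a.hom (bP j)) i • (Pi.single j 1 : n → A)) : Qrel bP bP' a) =
      Submodule.Quotient.mk (∑ j, bP'.repr (a.hom (bP j)) i • (Pi.single j 1 : n → A)) :=
    (map_sum (Submodule.mkQ _) _ _).symm
  rw [h2, h, show (Submodule.Quotient.mk (fun j => bP'.repr (a.hom (bP j)) i) : Qrel bP bP' a) = 0 from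
    (Submodule.Quotient.mk_eq_zero _).2 (Submodule.subset_span ⟨i, rfl⟩), TrivSqZeroExt.inr_zero]

/-- The map attached to a solution of the equations: the universal coordinates go to `ε y`. -/
def solHom (B : Alg A) (y : n → B) (hy : ∀ i, ∑ j, bP'.repr (a.hom (bP j)) i • y j = 0) :
    univAlg bP bP' a ⟶ dualAlg B :=
  let l : Qrel bP bP' a →ₗ[A] (B : Type u) := Submodule.liftQ _ (Fintype.linearCombination A y) (by
    rw [Submodule.span_le]
    rintro _ ⟨i, rfl⟩
    exact hy i)
  CommAlgCat.ofHom (TrivSqZeroExt.lift (Algebra.ofId A _)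
    (((TrivSqZeroExt.inrHom (B : Type u) (B : Type u)).restrictScalars A) ∘ₗ l)
    (fun _ _ => TrivSqZeroExt.inr_mul_inr _ _ _)
    (fun r q => by simp [Algebra.smul_def])
    (fun r q => by simp [Algebra.smul_def, mul_comm]))

theorem solHom_xi (B : Alg A) (y : n → B) (hy : ∀ i, ∑ j, bP'.repr (a.hom (bP j)) i • y j = 0) (j : n) :
    (solHom bP bP' a B y hy).hom (xi bP bP' a j) = TrivSqZeroExt.inr (y j) := by
  simp only [solHom, xi, CommAlgCat.hom_ofHom]
  refine (TrivSqZeroExt.lift_apply_inr _ _ _ _ _ _).trans ?_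
  simp [Fintype.linearCombination_apply_single]

theorem solHom_inl (B : Alg A) (y : n → B) (hy : ∀ i, ∑ j, bP'.repr (a.hom (bP j)) i • y j = 0) (r : A) :
    (solHom bP bP' a B y hy).hom (TrivSqZeroExt.inl r) = algebraMap A _ r := by
  simp only [solHom, CommAlgCat.hom_ofHom]
  exact TrivSqZeroExt.lift_apply_inl _ _ _ _ _ _

theorem solHom_inr (B : Alg A) (y : n → B) (hy : ∀ i, ∑ j, bP'.repr (a.hom (bP j)) i • y j = 0)
    (q : Qrel bP bP' a) : (solHom bP bP' a B y hy).hom (TrivSqZeroExt.inr q) =
      TrivSqZeroExt.inr (Submodule.liftQ _ (Fintype.linearCombination A y) (by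
        rw [Submodule.span_le]
        rintro _ ⟨i, rfl⟩
        exact hy i) q) := by
  simp only [solHom, CommAlgCat.hom_ofHom]
  exact TrivSqZeroExt.lift_apply_inr _ _ _ _ _ _

include bP bP' in
/-- **Maps from a linearly adequate functor to an underline extend.** -/
theorem exists_extension (M : ModuleCat.{u + 1} A)
    (φ : kernel ((underline A).map a) ⟶ (underline A).obj M) :
    ∃ g : P ⟶ M, kernel.ι ((underline A).map a) ≫ (underline A).map g = φ := by
  let R := univAlg bP bP' a
  obtain ⟨ξ, hξ⟩ := mem_range_kernelι ((underline A).map a) R (∑ j, xi bP bP' a j ⊗ₜ[A] bP j)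
    ((solution_iff bP bP' a R _).2 (xi_relation bP bP' a))
  -- the coordinates of the image of the universal element
  let w : (R : Type u) ⊗[A] M := appL φ R ξ
  let p : (Qrel bP bP' a) ⊗[A] M :=
    ((TrivSqZeroExt.sndHom A (Qrel bP bP' a)).rTensor M) w
  obtain ⟨μ, hμ⟩ : ∃ μ : n → M, p = ∑ j, (Submodule.Quotient.mk (Pi.single j 1) : Qrel bP bP' a) ⊗ₜ[A] μ j := by
    generalize p = q
    induction q using TensorProduct.induction_on with
    | zero => exact ⟨0, by simp⟩
    | tmul x z =>
      obtain ⟨c, rfl⟩ := Submodule.Quotient.mk_surjective _ x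
      refine ⟨fun j => c j • z, ?_⟩
      conv_lhs => rw [show c = ∑ j, c j • (Pi.single j 1 : n → A) by ext k; simp [Finset.sum_apply, Pi.single_apply]]
      rw [← Submodule.mkQ_apply, map_sum, TensorProduct.sum_tmul]
      refine Finset.sum_congr rfl fun j _ => ?_
      rw [map_smul, TensorProduct.smul_tmul]
      rfl
    | add x y hx hy =>
      obtain ⟨μ₁, rfl⟩ := hx
      obtain ⟨μ₂, rfl⟩ := hy
      exact ⟨μ₁ + μ₂, by simp [TensorProduct.tmul_add, Finset.sum_add_distrib]⟩
  refine ⟨ModuleCat.ofHom (bP.constr A μ), hom_ext' fun B z => ?_⟩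
  obtain ⟨y, hy⟩ := exists_coeff bP B (appL (kernel.ι ((underline A).map a)) B z)
  have hy' : ∀ i, ∑ j, bP'.repr (a.hom (bP j)) i • y j = 0 :=
    (solution_iff bP bP' a B y).1 (by rw [← hy]; exact kernelι_appL ((underline A).map a) B z)
  let f := solHom bP bP' a B y hy'
  let z' : (kernel ((underline A).map a)).obj (pt (dualAlg B)) := (kernel ((underline A).map a)).map (ptHom (inclHom B)) z
  let ε : (dualAlg B : Type u) := TrivSqZeroExt.inr (1 : (B : Type u))
  -- `ε z` is the image of the universal element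
  have hez : (kernel ((underline A).map a)).map (ptHom f) ξ = ε • z' := by
    refine injective_appL (kernel.ι ((underline A).map a)) (dualAlg B) ?_
    refine ((map_appL (kernel.ι ((underline A).map a)) f ξ).symm).trans ?_
    rw [hξ]
    refine Eq.trans ?_ (map_smul (appL (kernel.ι ((underline A).map a)) (dualAlg B)) ε z').symm
    rw [show appL (kernel.ι ((underline A).map a)) (dualAlg B) z' =
      ((underline A).obj P).map (ptHom (inclHom B)) (appL (kernel.ι ((underline A).map a)) B z) from
      (map_appL (kernel.ι ((underline A).map a)) (inclHom B) z).symm, hy]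
    change f.hom.toLinearMap.rTensor P (∑ j, xi bP bP' a j ⊗ₜ[A] bP j) =
      ε • ((inclHom B).hom.toLinearMap.rTensor P (∑ j, y j ⊗ₜ[A] bP j) : (dualAlg B : Type u) ⊗[A] P)
    rw [map_sum, map_sum, Finset.smul_sum]
    refine Finset.sum_congr rfl fun j _ => ?_
    rw [LinearMap.rTensor_tmul, LinearMap.rTensor_tmul, TensorProduct.smul_tmul', AlgHom.toLinearMap_apply,
      solHom_xi, AlgHom.toLinearMap_apply]
    congr 1
    refine TrivSqZeroExt.ext ?_ ?_ <;> simp [ε, inclHom]
  have h1 : f.hom.toLinearMap.rTensor M w = ε • (inclHom B).hom.toLinearMap.rTensor M (appL φ B z) := by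
    have e1 := map_appL φ f ξ
    rw [hez, map_smul, show appL φ (dualAlg B) z' = ((underline A).obj M).map (ptHom (inclHom B)) (appL φ B z)
      from (map_appL φ (inclHom B) z).symm] at e1
    exact e1
  have h2 := congrArg ((epsLin B).rTensor M) h1
  have key1 : ∀ t : (B : Type u) ⊗[A] M,
      (epsLin B).rTensor M (ε • (inclHom B).hom.toLinearMap.rTensor M t) = t := fun t => by
    induction t using TensorProduct.induction_on with
    | zero => simp
    | tmul b z => simp [ε, inclHom, TensorProduct.smul_tmul', epsLin]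
    | add x y hx hy => rw [map_add, smul_add, map_add, hx, hy]
  replace h2 := h2.trans (key1 (appL φ B z))
  let l : Qrel bP bP' a →ₗ[A] (B : Type u) := Submodule.liftQ _ (Fintype.linearCombination A y) (by
    rw [Submodule.span_le]
    rintro _ ⟨i, rfl⟩
    exact hy' i)
  have key2 : epsLin B ∘ₗ f.hom.toLinearMap = l ∘ₗ TrivSqZeroExt.sndHom A (Qrel bP bP' a) := by
    refine TrivSqZeroExt.linearMap_ext (fun r => ?_) fun q => ?_
    · change (TrivSqZeroExt.snd ((solHom bP bP' a B y hy').hom (TrivSqZeroExt.inl r))) =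
        l (TrivSqZeroExt.inl r : TrivSqZeroExt A (Qrel bP bP' a)).snd
      rw [solHom_inl, TrivSqZeroExt.algebraMap_eq_inl', TrivSqZeroExt.snd_inl, TrivSqZeroExt.snd_inl,
        map_zero]
    · change (TrivSqZeroExt.snd ((solHom bP bP' a B y hy').hom (TrivSqZeroExt.inr q))) =
        l (TrivSqZeroExt.inr q : TrivSqZeroExt A (Qrel bP bP' a)).snd
      rw [solHom_inr, TrivSqZeroExt.snd_inr, TrivSqZeroExt.snd_inr]
  rw [← LinearMap.rTensor_comp_apply, key2, LinearMap.rTensor_comp_apply] at h2
  refine Eq.trans ?_ h2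
  rw [show (TrivSqZeroExt.sndHom A (Qrel bP bP' a)).rTensor M w = p from rfl, hμ, comp_appL]
  erw [appL_underline, hy]
  simp [map_sum, l, Fintype.linearCombination_apply_single] <;> rfl

end GrothLib.Adeq20
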