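import Groth.Agent.Lib.Adeq20.Restr

/-!
# The pushforward of an adequate functor
-/

set_option autoImplicit false
set_option linter.style.haveILetI false

universe u

open CategoryTheory CategoryTheory.Limits Opposite TensorProduct

noncomputable section

namespace GrothLib.Adeq20

open Adeq

variable {A A' : Type u} [CommRing A] [CommRing A'] [Algebra A A']

/-- The base-changed algebra. -/
abbrev bch (A' : Type u) [CommRing A'] [Algebra A A'] (B : Alg A) : Alg A' := (Adeq.Alg.baseChange A A').obj B

variable {K : Type (u + 1)} [AddCommGroup K] [Module A' K] [Module A K] [IsScalarTower A A' K]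

/-- `(A' ⊗_A B) ⊗_{A'} K = B ⊗_A K`. -/
def swapPush (B : Alg A) : (A' ⊗[A] (B : Type u)) ⊗[A'] K ≃+ (B : Type u) ⊗[A] K :=
  ((TensorProduct.comm A' _ K).toAddEquiv.trans
    (TensorProduct.AlgebraTensorModule.cancelBaseChange A A' A' K (B : Type u)).toAddEquiv).trans
      (TensorProduct.comm A K (B : Type u)).toAddEquiv

theorem swapPush_tmul (B : Alg A) (a : A') (b : B) (k : K) :
    swapPush B ((a ⊗ₜ[A] b) ⊗ₜ[A'] k) = b ⊗ₜ[A] (a • k) := rfl

theorem swapPush_smul (B : Alg A) (b : B) (z : (A' ⊗[A] (B : Type u)) ⊗[A'] K) :
    swapPush B (((1 : A') ⊗ₜ[A] b : A' ⊗[A] (B : Type u)) • z) = b • swapPush B z := by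
  induction z using TensorProduct.induction_on with
  | zero => simp
  | tmul w k =>
    induction w using TensorProduct.induction_on with
    | zero => simp
    | tmul a c =>
      rw [TensorProduct.smul_tmul', smul_eq_mul, Algebra.TensorProduct.tmul_mul_tmul, one_mul, swapPush_tmul,
        swapPush_tmul, TensorProduct.smul_tmul', smul_eq_mul]
    | add x y hx hy => simp only [TensorProduct.add_tmul, smul_add, map_add, hx, hy]
  | add x y hx hy => simp only [smul_add, map_add, hx, hy]

theorem swapPush_natural {B B' : Alg A} (f : B ⟶ B') (z : (A' ⊗[A] (B : Type u)) ⊗[A'] K) :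
    swapPush B' (((Adeq.Alg.baseChange A A').map f).hom.toLinearMap.rTensor K z) =
      f.hom.toLinearMap.rTensor K (swapPush B z) := by
  induction z using TensorProduct.induction_on with
  | zero => simp
  | tmul w k =>
    induction w using TensorProduct.induction_on with
    | zero => simp
    | tmul a c => rfl
    | add x y hx hy =>
      rw [TensorProduct.add_tmul, map_add, map_add]
      exact (congrArg₂ (· + ·) hx hy).trans (by rw [map_add, map_add])
  | add x y hx hy => rw [map_add, map_add, hx, hy, map_add, map_add]

theorem swapPush_baseChange {T : Type (u + 1)} [AddCommGroup T] [Module A' T] [Module A T] [IsScalarTower A A' T]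
    (τ : K →ₗ[A'] T) (B : Alg A) (z : (A' ⊗[A] (B : Type u)) ⊗[A'] K) :
    swapPush B (τ.baseChange (A' ⊗[A] (B : Type u)) z) = (τ.restrictScalars A).baseChange (B : Type u) (swapPush B z) := by
  induction z using TensorProduct.induction_on with
  | zero => simp
  | tmul w k =>
    induction w using TensorProduct.induction_on with
    | zero => simp
    | tmul a c => simp [swapPush_tmul]
    | add x y hx hy => simp only [TensorProduct.add_tmul, map_add, hx, hy]
  | add x y hx hy => simp only [map_add, hx, hy]

variable (A A')

/-- The pushforward of an adequate functor is adequate. -/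
theorem adequate_push {F : MVF A'} (hF : adequate A' F) : adequate A ((Adeq.push A A').obj F) := by
  obtain ⟨K, T, i, τ, hinj, hrange⟩ := exists_range_of_adequate hF
  letI : Module A K := Module.compHom (K : Type (u + 1)) (algebraMap A A')
  haveI : IsScalarTower A A' K := IsScalarTower.of_algebraMap_smul fun _ _ => rfl
  letI : Module A T := Module.compHom (T : Type (u + 1)) (algebraMap A A')
  haveI : IsScalarTower A A' T := IsScalarTower.of_algebraMap_smul fun _ _ => rfl
  let K₀ : ModuleCat.{u + 1} A := ModuleCat.of A (K : Type (u + 1))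
  let T₀ : ModuleCat.{u + 1} A := ModuleCat.of A (T : Type (u + 1))
  let τ₀ : K₀ ⟶ T₀ := ModuleCat.ofHom (τ.hom.restrictScalars A)
  let e : ∀ B : Alg A, ((Adeq.push A A').obj F).obj (pt B) →ₗ[(B : Type u)] (B : Type u) ⊗[A] K₀ := fun B =>
    { toFun := fun x => swapPush B (appL i (bch A' B) x)
      map_add' := fun x y => (congrArg _ (map_add (appL i (bch A' B)) x y)).trans (map_add _ _ _)
      map_smul' := fun b x => (congrArg _ ((appL i (bch A' B)).map_smul ((1 : A') ⊗ₜ[A] b) x)).trans (swapPush_smul B b _) }
  let j : (Adeq.push A A').obj F ⟶ (underline A).obj K₀ :=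
    mkHom e fun B B' f x =>
      (congrArg _ (mapA_appL i ((Adeq.Alg.baseChange A A').map f) x).symm).trans (swapPush_natural f _)
  refine adequate_of_range j τ₀ (fun B x y h => hinj (bch A' B) ((swapPush B).injective h)) fun B z => ?_
  obtain ⟨z, rfl⟩ := (swapPush (A' := A') (K := (K : Type (u + 1))) B).surjective z
  refine (Iff.of_eq (congrArg (· = 0) (swapPush_baseChange τ.hom B z).symm)).trans ?_
  constructor
  · intro h
    obtain ⟨y, hy⟩ := (hrange (bch A' B) z).1 ((swapPush B).injective (h.trans (map_zero _).symm))
    exact ⟨y, congrArg (swapPush B) hy⟩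
  · rintro ⟨y, hy⟩
    exact (congrArg (swapPush B) ((hrange (bch A' B) z).2 ⟨y, (swapPush B).injective hy⟩)).trans (map_zero _)

end GrothLib.Adeq20
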