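import Groth.Agent.Lib.Adeq20.Dual
import Mathlib.LinearAlgebra.TensorProduct.Tower

/-!
# Change of base ring
-/

set_option autoImplicit false
set_option linter.style.haveILetI false

universe u

open CategoryTheory CategoryTheory.Limits Opposite TensorProduct

noncomputable section

namespace GrothLib.Adeq20

open Adeq

variable (A A' : Type u) [CommRing A] [CommRing A'] [Algebra A A']

/-- A family of additive, natural, semilinear maps is a morphism. -/
def mkHom {R : Type u} [CommRing R] {F G : MVF R} (c : ∀ B : Alg R, F.obj (pt B) →ₗ[B] G.obj (pt B))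
    (h : ∀ ⦃B B' : Alg R⦄ (f : B ⟶ B') (x : F.obj (pt B)), c B' (mapA F f x) = mapA G f (c B x)) : F ⟶ G :=
  PresheafOfModules.homMk
    { app := fun X => AddCommGrpCat.ofHom (c X.unop.unop).toAddMonoidHom
      naturality := fun {X Y} g => by
        ext x
        exact h g.unop.unop x }
    (fun X r x => (c X.unop.unop).map_smul r x)

variable {A} in
/-- The restricted algebra. -/
abbrev res (B : Alg A') : Alg A := (Adeq.Alg.restr A A').obj B

/-- The comparison of the two base changes of a module at an algebra. -/
def cancelRes (B : Alg A') (K : ModuleCat.{u + 1} A) :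
    (res A' (A := A) B : Type u) ⊗[A] K →ₗ[(B : Type u)] (B : Type u) ⊗[A'] (A' ⊗[A] K) :=
  letI : Algebra A (B : Type u) := ((algebraMap A' (B : Type u)).comp (algebraMap A A')).toAlgebra
  haveI : IsScalarTower A A' (B : Type u) := IsScalarTower.of_algebraMap_eq fun _ => rfl
  (TensorProduct.AlgebraTensorModule.cancelBaseChange A A' (B : Type u) (B : Type u) K).symm.toLinearMap

theorem cancelRes_tmul (B : Alg A') (K : ModuleCat.{u + 1} A) (b : B) (k : K) :
    cancelRes A A' B K ((show (res A' (A := A) B : Type u) from b) ⊗ₜ[A] k) = b ⊗ₜ[A'] ((1 : A') ⊗ₜ[A] k) := rfl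

theorem cancelRes_bijective (B : Alg A') (K : ModuleCat.{u + 1} A) : Function.Bijective (cancelRes A A' B K) := by
  letI : Algebra A (B : Type u) := ((algebraMap A' (B : Type u)).comp (algebraMap A A')).toAlgebra
  haveI : IsScalarTower A A' (B : Type u) := IsScalarTower.of_algebraMap_eq fun _ => rfl
  exact (TensorProduct.AlgebraTensorModule.cancelBaseChange A A' (B : Type u) (B : Type u) K).symm.bijective

/-- The restriction of an adequate functor is adequate. -/
theorem adequate_restr {F : MVF A} (hF : adequate A F) : adequate A' ((Adeq.restr A A').obj F) := by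
  obtain ⟨K, T, i, τ, hinj, hrange⟩ := exists_range_of_adequate hF
  let K' : ModuleCat.{u + 1} A' := ModuleCat.of A' (A' ⊗[A] K)
  let T' : ModuleCat.{u + 1} A' := ModuleCat.of A' (A' ⊗[A] T)
  let τ' : K' ⟶ T' := ModuleCat.ofHom (τ.hom.baseChange A')
  have hnat : ∀ {B B' : Alg A'} (f : B ⟶ B') (z : (res A' (A := A) B : Type u) ⊗[A] K),
      cancelRes A A' B' K (((Adeq.Alg.restr A A').map f).hom.toLinearMap.rTensor K z) =
        f.hom.toLinearMap.rTensor K' (cancelRes A A' B K z) := fun {B B'} f z => by
    induction z using TensorProduct.induction_on with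
    | zero => simp
    | tmul b k => rfl
    | add x y hx hy =>
      rw [map_add, map_add]
      exact (congrArg₂ (· + ·) hx hy).trans ((congrArg _ (map_add (cancelRes A A' B K) x y)).trans (map_add _ _ _)).symm
  have hτ : ∀ (B : Alg A') (z : (res A' (A := A) B : Type u) ⊗[A] K),
      τ'.hom.baseChange (B : Type u) (cancelRes A A' B K z) =
        cancelRes A A' B T (τ.hom.baseChange (res A' (A := A) B : Type u) z) := fun B z => by
    induction z using TensorProduct.induction_on with
    | zero => simp
    | tmul b k => rfl
    | add x y hx hy => simp only [map_add, hx, hy]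
  let j : (Adeq.restr A A').obj F ⟶ (underline A').obj K' :=
    mkHom (fun B =>
      { toFun := fun x => cancelRes A A' B K (appL i (res A' B) x)
        map_add' := fun x y => (congrArg _ (map_add (appL i (res A' B)) x y)).trans (map_add _ _ _)
        map_smul' := fun b x => (congrArg _ ((appL i (res A' B)).map_smul b x)).trans ((cancelRes A A' B K).map_smul b _) })
      fun B B' f x => (congrArg _ (mapA_appL i ((Adeq.Alg.restr A A').map f) x).symm).trans (hnat f _)
  refine adequate_of_range j τ' (fun B x y h => hinj (res A' B) ((cancelRes_bijective A A' B K).1 h)) fun B z => ?_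
  obtain ⟨z, rfl⟩ := (cancelRes_bijective A A' B K).2 z
  rw [hτ]
  constructor
  · intro h
    obtain ⟨y, hy⟩ := (hrange (res A' B) z).1 ((cancelRes_bijective A A' B T).1 (h.trans (map_zero _).symm))
    exact ⟨y, congrArg (cancelRes A A' B K) hy⟩
  · rintro ⟨y, hy⟩
    rw [(hrange (res A' B) z).2 ⟨y, (cancelRes_bijective A A' B K).1 hy⟩]
    exact map_zero _

end GrothLib.Adeq20
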