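import Groth.Prelude.Def_W4stkadequateTF
import Groth.Agent.Lib.Adeq20.Dual
import Mathlib.Algebra.Homology.ShortComplex.ModuleCat

/-!
# Tangent functors
-/

set_option autoImplicit false
set_option linter.style.haveILetI false

universe u

open CategoryTheory CategoryTheory.Limits Opposite

noncomputable section

namespace GrothLib.Adeq20

open Adeq AdeqTF

variable {A : Type u} [CommRing A] (B : Alg A)

theorem mem_tangent {N : ModuleCat.{u} B} (F : MVF A) (x : F.obj (pt (ext B N))) :
    x ∈ tangent B N F ↔ mapA F (AdeqTF.fst B N) x = 0 := Iff.rfl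

theorem tangentMap_coe {N N' : ModuleCat.{u} B} (F : MVF A) (g : N ⟶ N') (x : tangent B N F) :
    (tangentMap B F g x : F.obj (pt (ext B N'))) = mapA F (AdeqTF.map B g) x.1 := rfl

theorem inl_fst (N : ModuleCat.{u} B) : AdeqTF.inl B N ≫ AdeqTF.fst B N = 𝟙 B := by
  refine ConcreteCategory.hom_ext _ _ fun b => ?_
  rfl

theorem inl_map {N N' : ModuleCat.{u} B} (g : N ⟶ N') : AdeqTF.inl B N ≫ AdeqTF.map B g = AdeqTF.inl B N' := by
  refine ConcreteCategory.hom_ext _ _ fun b => ?_
  exact TrivSqZeroExt.map_inl g.hom b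

/-- The projection to the tangent module. -/
def toTangent {N : ModuleCat.{u} B} (F : MVF A) (x : F.obj (pt (ext B N))) : tangent B N F :=
  ⟨x - mapA F (AdeqTF.inl B N) (mapA F (AdeqTF.fst B N) x), by
    rw [mem_tangent, map_sub, map_comp' F (AdeqTF.inl B N), map_congr F (inl_fst B N), mapA_id, sub_self]⟩

theorem toTangent_coe {N : ModuleCat.{u} B} (F : MVF A) (x : tangent B N F) : toTangent B F x.1 = x :=
  Subtype.ext (by
    change x.1 - _ = x.1
    rw [(mem_tangent B F x.1).1 x.2, map_zero, sub_zero])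

theorem tangentMap_toTangent {N N' : ModuleCat.{u} B} (F : MVF A) (g : N ⟶ N') (x : F.obj (pt (ext B N))) :
    tangentMap B F g (toTangent B F x) = toTangent B F (mapA F (AdeqTF.map B g) x) :=
  Subtype.ext (by
    rw [tangentMap_coe]
    change mapA F (AdeqTF.map B g) (x - _) = mapA F (AdeqTF.map B g) x - _
    rw [map_sub, map_comp' F (AdeqTF.inl B N), map_congr F (inl_map B g), map_comp' F (AdeqTF.map B g),
      map_congr F (AdeqTF.map_fst B g)])

theorem tangentMap_comp {N N' N'' : ModuleCat.{u} B} (F : MVF A) (g : N ⟶ N') (h : N' ⟶ N'') (x : tangent B N F) :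
    tangentMap B F h (tangentMap B F g x) = tangentMap B F (g ≫ h) x :=
  Subtype.ext (by
    rw [tangentMap_coe, tangentMap_coe, tangentMap_coe, map_comp']
    refine map_congr F (CommAlgCat.hom_ext (AlgHom.ext fun z => ?_)) x.1
    refine TrivSqZeroExt.ext ?_ ?_
    · change TrivSqZeroExt.fst (TrivSqZeroExt.map h.hom (TrivSqZeroExt.map g.hom z)) =
        TrivSqZeroExt.fst (TrivSqZeroExt.map (g ≫ h).hom z)
      rw [TrivSqZeroExt.fst_map, TrivSqZeroExt.fst_map, TrivSqZeroExt.fst_map]
    · change TrivSqZeroExt.snd (TrivSqZeroExt.map h.hom (TrivSqZeroExt.map g.hom z)) =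
        TrivSqZeroExt.snd (TrivSqZeroExt.map (g ≫ h).hom z)
      rw [TrivSqZeroExt.snd_map, TrivSqZeroExt.snd_map, TrivSqZeroExt.snd_map, ModuleCat.hom_comp, LinearMap.comp_apply])

theorem tangentMap_zero {N N' : ModuleCat.{u} B} (F : MVF A) (x : tangent B N F) :
    tangentMap B F (0 : N ⟶ N') x = 0 :=
  Subtype.ext (by
    rw [tangentMap_coe, map_congr F (g := AdeqTF.fst B N ≫ AdeqTF.inl B N') (CommAlgCat.hom_ext (AlgHom.ext fun z => ?_)),
      ← map_comp', (mem_tangent B F x.1).1 x.2, map_zero]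
    · rfl
    · refine TrivSqZeroExt.ext ?_ ?_
      · exact TrivSqZeroExt.fst_map _ _
      · exact (TrivSqZeroExt.snd_map _ _).trans rfl)

theorem tangentMap_id {N : ModuleCat.{u} B} (F : MVF A) (x : tangent B N F) : tangentMap B F (𝟙 N) x = x :=
  Subtype.ext (by
    rw [tangentMap_coe, map_congr F (g := 𝟙 _) (CommAlgCat.hom_ext (AlgHom.ext fun z => ?_)), mapA_id]
    refine TrivSqZeroExt.ext ?_ ?_
    · exact TrivSqZeroExt.fst_map _ _
    · exact (TrivSqZeroExt.snd_map _ _).trans rfl)

/-- A morphism on tangent modules. -/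
def tanHom {F G : MVF A} (φ : F ⟶ G) (N : ModuleCat.{u} B) : tangent B N F →+ tangent B N G :=
  ((appL φ (ext B N)).toAddMonoidHom.comp (tangent B N F).subtype).codRestrict (tangent B N G) fun x => by
    rw [mem_tangent]
    change mapA G (AdeqTF.fst B N) (appL φ (ext B N) x.1) = 0
    rw [mapA_appL, (mem_tangent B F x.1).1 x.2, map_zero]

theorem tanHom_natural {F G : MVF A} (φ : F ⟶ G) {N N' : ModuleCat.{u} B} (g : N ⟶ N') (x : tangent B N F) :
    tanHom B φ N' (tangentMap B F g x) = tangentMap B G g (tanHom B φ N x) :=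
  Subtype.ext (mapA_appL φ (AdeqTF.map B g) x.1).symm

variable {C : ShortComplex (MVF A)} (hC : C.ShortExact)

include hC in
theorem tan_injective (N : ModuleCat.{u} B) : Function.Injective (tanHom B C.f N) := by
  haveI := hC.mono_f
  exact fun x y h => Subtype.ext (injective_appL C.f _ (congrArg Subtype.val h))

include hC in
theorem tan_exact (N : ModuleCat.{u} B) (x : tangent B N C.X₂) (hx : tanHom B C.g N x = 0) :
    ∃ y, tanHom B C.f N y = x := by
  haveI := hC.mono_f
  obtain ⟨y, hy⟩ := exact_appL hC.exact (ext B N) x.1 (congrArg Subtype.val hx)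
  refine ⟨⟨y, (mem_tangent B _ y).2 (injective_appL C.f B ?_)⟩, Subtype.ext hy⟩
  rw [← mapA_appL, hy, (mem_tangent B _ x.1).1 x.2, map_zero]

theorem tan_comp (N : ModuleCat.{u} B) (y : tangent B N C.X₁) : tanHom B C.g N (tanHom B C.f N y) = 0 :=
  Subtype.ext ((comp_appL C.f C.g _ y.1).symm.trans (by rw [C.zero]; rfl))

include hC in
theorem tan_surjective (N : ModuleCat.{u} B) : Function.Surjective (tanHom B C.g N) := fun z => by
  haveI := hC.epi_g
  obtain ⟨x, hx⟩ := surjective_appL C.g (ext B N) z.1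
  refine ⟨toTangent B C.X₂ x, Subtype.ext ?_⟩
  change appL C.g (ext B N) (x - mapA C.X₂ (AdeqTF.inl B N) (mapA C.X₂ (AdeqTF.fst B N) x)) = z.1
  rw [map_sub, ← mapA_appL, ← mapA_appL, hx, (mem_tangent B _ z.1).1 z.2, map_zero, sub_zero]

/-- Right exactness of the tangent functor of the middle term from the outer ones. -/
theorem rightExact_mid (hC : C.ShortExact) (S : ShortComplex (ModuleCat.{u} B))
    (h₁ : Function.Surjective (tangentMap B C.X₁ S.g) ∧
      (tangentMap B C.X₁ S.g).ker = (tangentMap B C.X₁ S.f).range)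
    (h₃ : Function.Surjective (tangentMap B C.X₃ S.g) ∧
      (tangentMap B C.X₃ S.g).ker = (tangentMap B C.X₃ S.f).range) :
    Function.Surjective (tangentMap B C.X₂ S.g) ∧
      (tangentMap B C.X₂ S.g).ker = (tangentMap B C.X₂ S.f).range := by
  refine ⟨fun z => ?_, le_antisymm (fun x (hx : tangentMap B C.X₂ S.g x = 0) => ?_) ?_⟩
  · obtain ⟨h, hh⟩ := h₃.1 (tanHom B C.g _ z)
    obtain ⟨x, rfl⟩ := tan_surjective B hC _ h
    obtain ⟨y, hy⟩ := tan_exact B hC _ (z - tangentMap B C.X₂ S.g x) (by
      rw [map_sub, tanHom_natural, hh, sub_self])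
    obtain ⟨y', rfl⟩ := h₁.1 y
    exact ⟨x + tanHom B C.f _ y', by rw [map_add, ← tanHom_natural, hy, add_sub_cancel]⟩
  · obtain ⟨k, hk⟩ := h₃.2.le (show tanHom B C.g _ x ∈ (tangentMap B C.X₃ S.g).ker by
      rw [AddMonoidHom.mem_ker, ← tanHom_natural, hx, map_zero])
    obtain ⟨x₁, rfl⟩ := tan_surjective B hC _ k
    obtain ⟨y, hy⟩ := tan_exact B hC _ (x - tangentMap B C.X₂ S.f x₁) (by
      rw [map_sub, tanHom_natural, hk, sub_self])
    obtain ⟨y₁, hy₁⟩ := h₁.2.le (show y ∈ (tangentMap B C.X₁ S.g).ker from tan_injective B hC _ (by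
      rw [map_zero, tanHom_natural, hy, map_sub, hx, tangentMap_comp, S.zero, tangentMap_zero, sub_zero]))
    exact ⟨x₁ + tanHom B C.f _ y₁, by rw [map_add, ← tanHom_natural, hy₁, hy, add_sub_cancel]⟩
  · rintro _ ⟨x, rfl⟩
    rw [AddMonoidHom.mem_ker, tangentMap_comp, S.zero, tangentMap_zero]

/-- Right exactness of the tangent functor of the last term. -/
theorem rightExact_right (hC : C.ShortExact) (S : ShortComplex (ModuleCat.{u} B))
    (h₁ : Function.Surjective (tangentMap B C.X₁ S.g) ∧
      (tangentMap B C.X₁ S.g).ker = (tangentMap B C.X₁ S.f).range)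
    (h₂ : Function.Surjective (tangentMap B C.X₂ S.g) ∧
      (tangentMap B C.X₂ S.g).ker = (tangentMap B C.X₂ S.f).range) :
    Function.Surjective (tangentMap B C.X₃ S.g) ∧
      (tangentMap B C.X₃ S.g).ker = (tangentMap B C.X₃ S.f).range := by
  refine ⟨fun z => ?_, le_antisymm (fun h (hh : tangentMap B C.X₃ S.g h = 0) => ?_) ?_⟩
  · obtain ⟨g, rfl⟩ := tan_surjective B hC _ z
    obtain ⟨x, rfl⟩ := h₂.1 g
    exact ⟨tanHom B C.g _ x, (tanHom_natural B C.g _ x).symm⟩
  · obtain ⟨g, rfl⟩ := tan_surjective B hC _ h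
    obtain ⟨y, hy⟩ := tan_exact B hC _ (tangentMap B C.X₂ S.g g) (by rw [tanHom_natural, hh])
    obtain ⟨y', rfl⟩ := h₁.1 y
    obtain ⟨g₁, hg₁⟩ := h₂.2.le (show g - tanHom B C.f _ y' ∈ (tangentMap B C.X₂ S.g).ker by
      rw [AddMonoidHom.mem_ker, map_sub, ← tanHom_natural, hy, sub_self])
    refine ⟨tanHom B C.g _ g₁, ?_⟩
    rw [← tanHom_natural, hg₁, map_sub, tan_comp, sub_zero]
  · rintro _ ⟨x, rfl⟩
    rw [AddMonoidHom.mem_ker, tangentMap_comp, S.zero, tangentMap_zero]

section Free

variable (D : Alg A)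

/-- The transition maps of the free functor. -/
def freeMap {C C' : Alg A} (f : C ⟶ C') :
    (ULift.{u + 1} (D ⟶ C) →₀ (C : Type u)) →+ (ULift.{u + 1} (D ⟶ C') →₀ (C' : Type u)) :=
  Finsupp.liftAddHom fun p : ULift.{u + 1} (D ⟶ C) =>
    (Finsupp.singleAddHom (ULift.up (p.down ≫ f) : ULift.{u + 1} (D ⟶ C'))).comp f.hom.toRingHom.toAddMonoidHom

theorem freeMap_single {C C' : Alg A} (f : C ⟶ C') (p : ULift.{u + 1} (D ⟶ C)) (r : C) :
    freeMap D f (Finsupp.single p r) = Finsupp.single (ULift.up (p.down ≫ f)) (f.hom r) :=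
  Finsupp.liftAddHom_apply_single _ _ _

theorem freeMap_id (C : Alg A) : freeMap D (𝟙 C) = AddMonoidHom.id _ :=
  Finsupp.addHom_ext fun p r => (freeMap_single D (𝟙 C) p r).trans (by
    rw [Category.comp_id]
    rfl)

theorem freeMap_comp {C C' C'' : Alg A} (f : C ⟶ C') (g : C' ⟶ C'') :
    freeMap D (f ≫ g) = (freeMap D g).comp (freeMap D f) :=
  Finsupp.addHom_ext fun p r => by
    rw [freeMap_single, AddMonoidHom.comp_apply, freeMap_single, freeMap_single, Category.assoc]
    rfl

theorem freeMap_smul {C C' : Alg A} (f : C ⟶ C') (r : C) (z : ULift.{u + 1} (D ⟶ C) →₀ (C : Type u)) :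
    freeMap D f (r • z) = f.hom r • freeMap D f z := by
  induction z using Finsupp.induction_linear with
  | zero => simp
  | add a b ha hb => rw [smul_add, map_add, map_add, smul_add, ha, hb]
  | single p s => rw [Finsupp.smul_single, freeMap_single, freeMap_single, Finsupp.smul_single, smul_eq_mul,
      smul_eq_mul, map_mul]

/-- The abelian groups of the free functor. -/
abbrev freeAb : (Alg A)ᵒᵖᵒᵖ ⥤ Ab.{u + 1} where
  obj X := AddCommGrpCat.of (ULift.{u + 1} (D ⟶ X.unop.unop) →₀ (X.unop.unop : Type u))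
  map f := AddCommGrpCat.ofHom (freeMap D f.unop.unop)
  map_id X := AddCommGrpCat.hom_ext (freeMap_id D X.unop.unop)
  map_comp f g := AddCommGrpCat.hom_ext (freeMap_comp D f.unop.unop g.unop.unop)

/-- The free module-valued functor on one generator at `D`. -/
def freeAt : MVF A := PresheafOfModules.ofPresheaf (freeAb D) fun X Y f r m => freeMap_smul D f.unop.unop r m

theorem mapA_freeAt {C C' : Alg A} (f : C ⟶ C') (p : ULift.{u + 1} (D ⟶ C)) (r : C) :
    mapA (freeAt D) f (Finsupp.single p r) = Finsupp.single (ULift.up (p.down ≫ f)) (f.hom r) :=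
  freeMap_single D f p r

/-- The map out of a free functor attached to an element. -/
def freeLift {I : MVF A} (x : I.obj (pt D)) : freeAt D ⟶ I :=
  let c : ∀ C : Alg A, (freeAt D).obj (pt C) →ₗ[(C : Type u)] I.obj (pt C) := fun C =>
    Finsupp.linearCombination (C : Type u) (fun p : ULift.{u + 1} (D ⟶ C) => mapA I p.down x)
  PresheafOfModules.homMk
    { app := fun X => AddCommGrpCat.ofHom (c X.unop.unop).toAddMonoidHom
      naturality := fun {X Y} g => by
        refine AddCommGrpCat.hom_ext (Finsupp.addHom_ext fun p s => ?_)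
        change c Y.unop.unop (freeMap D g.unop.unop (Finsupp.single p s)) =
          mapA I g.unop.unop (c X.unop.unop (Finsupp.single p s))
        rw [freeMap_single]
        refine (Finsupp.linearCombination_single _ _ _).trans ?_
        refine Eq.trans ?_ (congrArg (mapA I g.unop.unop) (Finsupp.linearCombination_single _ _ _)).symm
        rw [mapA_smul, map_comp'] }
    (fun X r x => (c X.unop.unop).map_smul r x)

theorem freeLift_gen {I : MVF A} (x : I.obj (pt D)) {C : Alg A} (f : D ⟶ C) :
    appL (freeLift D x) C (Finsupp.single (ULift.up f) (1 : (C : Type u))) = mapA I f x :=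
  (Finsupp.linearCombination_single _ _ _).trans (one_smul _ _)

/-- An injective functor turns an epimorphism of algebras into a surjection. -/
theorem injective_surjective (I : MVF A) [Injective I] {D' : Alg A} (q : D ⟶ D') [Epi q] :
    Function.Surjective (mapA I q) := fun y => by
  let e : freeAt D' ⟶ freeAt D :=
    freeLift D' (Finsupp.single (ULift.up q) (1 : (D' : Type u)) : (freeAt D).obj (pt D'))
  haveI : Mono e := mono_of_injective' e fun C => by
    have h : ⇑(appL e C) = Finsupp.mapDomain (fun p : ULift.{u + 1} (D' ⟶ C) =>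
        (ULift.up (q ≫ p.down) : ULift.{u + 1} (D ⟶ C))) := by
      funext z
      induction z using Finsupp.induction_linear with
      | zero => exact (map_zero (appL e C)).trans Finsupp.mapDomain_zero.symm
      | add a b ha hb => exact (map_add (appL e C) a b).trans ((congrArg₂ (· + ·) ha hb).trans Finsupp.mapDomain_add.symm)
      | single p s =>
        refine (Finsupp.linearCombination_single _ _ _).trans ?_
        rw [Finsupp.mapDomain_single]
        change s • (mapA (freeAt D) p.down (Finsupp.single (ULift.up q) (1 : (D' : Type u)))) = _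
        rw [mapA_freeAt, map_one]
        exact (Finsupp.smul_single_one _ _)
    rw [h]
    exact Finsupp.mapDomain_injective fun a b hab => ULift.ext _ _ ((cancel_epi q).1 (congrArg ULift.down hab))
  let χ : freeAt D ⟶ I := Injective.factorThru (freeLift D' y) e
  have hχ : e ≫ χ = freeLift D' y := Injective.comp_factorThru _ _
  refine ⟨appL χ D (Finsupp.single (ULift.up (𝟙 D)) (1 : (D : Type u))), ?_⟩
  refine (mapA_appL χ q _).trans ?_
  have h1 := congrArg (fun φ => appL φ D' (Finsupp.single (ULift.up (𝟙 D')) (1 : (D' : Type u)))) hχ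
  replace h1 := ((comp_appL e χ D' _).symm.trans h1).trans ((freeLift_gen D' y (𝟙 D')).trans (mapA_id I y))
  refine Eq.trans (congrArg (appL χ D') ?_) h1
  refine ((mapA_freeAt D q _ _).trans ?_).trans
    ((freeLift_gen D' (I := freeAt D) (Finsupp.single (ULift.up q) (1 : (D' : Type u))) (𝟙 D')).trans
      (mapA_id (freeAt D) _)).symm
  rw [map_one, Category.id_comp]

end Free

end GrothLib.Adeq20
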