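import Groth.Prelude.Def_Adeq
import Mathlib.RingTheory.AdjoinRoot
import Mathlib.RingTheory.RingHom.Flat
import Mathlib.RingTheory.Flat.Basic

/-!
# Additive transformations commuting with units are linear
-/

set_option autoImplicit false
set_option linter.style.haveILetI false

universe u

open CategoryTheory CategoryTheory.Limits Opposite TensorProduct Polynomial

noncomputable section

namespace GrothLib.Adeq20

open Adeq

variable {A : Type u} [CommRing A]

/-- If `bc f` is injective and `f` has a linear retraction, the transition map is injective. -/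
theorem map_injective_of_retraction (G : MVF A) {B B' : Alg A} (f : B ⟶ B') (r : B' →+ B)
    (hr : ∀ (b : B) (c : B'), r (f.hom b * c) = b * r c) (hr1 : r 1 = 1) [IsIso (G.bc f)] :
    Function.Injective (G.map (ptHom f)) := by
  letI : Algebra B B' := f.hom.toRingHom.toAlgebra
  let rl : (B' : Type u) →ₗ[B] (B : Type u) := { r with map_smul' := fun b c => hr b c }
  intro x y hxy
  have hbc : ∀ z : G.obj (pt B), (G.bc f).hom ((1 : B') ⊗ₜ[B] z) = G.map (ptHom f) z := fun z =>
    one_smul (B' : Type u) _
  have h : (1 : B') ⊗ₜ[B] x = (1 : B') ⊗ₜ[B] y :=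
    ((ConcreteCategory.isIso_iff_bijective (G.bc f)).1 inferInstance).1
      ((hbc x).trans (hxy.trans (hbc y).symm))
  have h2 := congrArg (fun w => TensorProduct.lid B (G.obj (pt B)) (rl.rTensor _ w)) h
  simpa [rl, hr1] using h2

/-- An additive transformation commuting with units is linear when the target base changes along flat maps. -/
theorem smul_comm_of_units {F G : MVF A}
    (φ : ∀ B : Alg A, F.obj (pt B) → G.obj (pt B))
    (hnat : ∀ ⦃B B' : Alg A⦄ (f : B ⟶ B') (x : F.obj (pt B)),
      φ B' (F.map (ptHom f) x) = G.map (ptHom f) (φ B x))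
    (hadd : ∀ (B : Alg A) (x y : F.obj (pt B)), φ B (x + y) = φ B x + φ B y)
    (hunit : ∀ (B : Alg A) (v : (B : Type u)ˣ) (x : F.obj (pt B)), φ B ((v : B) • x) = (v : B) • φ B x)
    (hG : ∀ ⦃B B' : Alg A⦄ (f : B ⟶ B'), f.hom.toRingHom.Flat → IsIso (G.bc f))
    (B : Alg A) (b : B) (x : F.obj (pt B)) : φ B (b • x) = b • φ B x := by
  rcases subsingleton_or_nontrivial (B : Type u) with hB | hB
  · haveI := Module.subsingleton (B : Type u) (G.obj (pt B))
    exact Subsingleton.elim _ _
  let p : (B : Type u)[X] := X ^ 2 - (C b * X + 1)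
  have hd : (C b * X + 1 : (B : Type u)[X]).degree < (2 : ℕ) := by
    refine lt_of_le_of_lt (Polynomial.degree_linear_le (a := b) (b := (1 : B))) ?_
    exact_mod_cast Nat.one_lt_two
  have hp : p.Monic := Polynomial.monic_X_pow_sub hd
  have hpd : p.natDegree = 2 := by
    have : p.degree = (2 : ℕ) := by
      rw [Polynomial.degree_sub_eq_left_of_degree_lt (by rwa [Polynomial.degree_X_pow]), Polynomial.degree_X_pow]
    exact Polynomial.natDegree_eq_of_degree_eq_some this
  let B' : Alg A := algOf A (AdjoinRoot p)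
  let f : B ⟶ B' := CommAlgCat.ofHom (IsScalarTower.toAlgHom A (B : Type u) (AdjoinRoot p))
  let t : AdjoinRoot p := AdjoinRoot.root p
  let β : AdjoinRoot p := algebraMap (B : Type u) (AdjoinRoot p) b
  have ht : t * (t - β) = 1 := by
    have h0 := AdjoinRoot.eval₂_root p
    simp only [p, Polynomial.eval₂_sub, Polynomial.eval₂_add, Polynomial.eval₂_mul, Polynomial.eval₂_X_pow,
      Polynomial.eval₂_C, Polynomial.eval₂_X, Polynomial.eval₂_one, ← AdjoinRoot.algebraMap_eq] at h0
    linear_combination h0
  let v : (B' : Type u)ˣ := ⟨t, t - β, ht, (mul_comm _ _).trans ht⟩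
  have hflat : f.hom.toRingHom.Flat := by
    haveI : Module.Free (B : Type u) (AdjoinRoot p) := Module.Free.of_basis (AdjoinRoot.powerBasis' hp).basis
    have h1 : (algebraMap (B : Type u) (AdjoinRoot p)).Flat := RingHom.flat_algebraMap_iff.2 inferInstance
    exact h1
  haveI := hG f hflat
  let i0 : Fin (AdjoinRoot.powerBasis' hp).dim := ⟨0, by rw [AdjoinRoot.powerBasis'_dim, hpd]; omega⟩
  let r := (AdjoinRoot.powerBasis' hp).basis.coord i0
  have hr1 : r 1 = 1 := by
    have h1 : (AdjoinRoot.powerBasis' hp).basis i0 = 1 := by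
      rw [PowerBasis.basis_eq_pow]
      exact pow_zero _
    change ((AdjoinRoot.powerBasis' hp).basis.repr 1) i0 = 1
    rw [← h1, Module.Basis.repr_self, Finsupp.single_eq_same]
  refine map_injective_of_retraction G f r.toAddMonoidHom (fun c d => ?_) hr1 ?_
  · change r (algebraMap (B : Type u) (AdjoinRoot p) c * d) = c * r d
    rw [← Algebra.smul_def, map_smul, smul_eq_mul]
  · let Φ : F.obj (pt B') →+ G.obj (pt B') := AddMonoidHom.mk' (φ B') (hadd B')
    have h1 : ∀ z : F.obj (pt B'), Φ ((β : B') • z) = (β : B') • Φ z := fun z => by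
      have hβ : (β : B') = (v : B') - ((v⁻¹ : (B' : Type u)ˣ) : B') := by
        change β = t - (t - β)
        ring
      rw [hβ, sub_smul, sub_smul, map_sub]
      exact congrArg₂ (· - ·) (hunit B' v z) (hunit B' v⁻¹ z)
    rw [← hnat f, PresheafOfModules.map_smul, PresheafOfModules.map_smul]
    refine Eq.trans (h1 (F.map (ptHom f) x)) ?_
    exact congrArg ((β : B') • ·) (hnat f x)

end GrothLib.Adeq20
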